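import Mathlib.RingTheory.DividedPowers.DPMorphism
import Mathlib.RingTheory.AdicCompletion.Algebra
import Mathlib.Tactic.LinearCombination

/-!
# Divided powers on the adic completion
-/

set_option autoImplicit false
universe u

open DividedPowers Finset

namespace GrothLib.DPowPoly

variable {A : Type u} [CommRing A] {I : Ideal A} (γ : DividedPowers I) {q : A} {t : ℕ}

include γ in
theorem dpow_sub_mem (ht : Ideal.span {q} ^ t ≤ I) {a b : A} (ha : a ∈ I) {e : ℕ}
    (hab : b - a ∈ Ideal.span {q} ^ (e + t)) (n : ℕ) : γ.dpow n b - γ.dpow n a ∈ Ideal.span {q} ^ e := by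
  rw [Ideal.span_singleton_pow, Ideal.mem_span_singleton'] at hab
  obtain ⟨r, hr⟩ := hab
  have hc : r * q ^ t ∈ I :=
    Ideal.mul_mem_left _ _ (ht (Ideal.pow_mem_pow (Ideal.mem_span_singleton_self _) _))
  have hb : b = a + q ^ e * (r * q ^ t) := by rw [pow_add] at hr; linear_combination -hr
  rw [hb, γ.dpow_add ha (Ideal.mul_mem_left _ _ hc),
    ← Finset.add_sum_erase _ _ (show (n, 0) ∈ antidiagonal n by simp),
    γ.dpow_zero (Ideal.mul_mem_left _ _ hc), mul_one, add_sub_cancel_left]
  refine Ideal.sum_mem _ fun k hk => Ideal.mul_mem_left _ _ ?_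
  obtain ⟨k1, k2⟩ := k
  simp only [mem_erase, mem_antidiagonal, ne_eq, Prod.mk.injEq] at hk
  rw [γ.dpow_mul hc, ← pow_mul, Ideal.span_singleton_pow]
  refine Ideal.mul_mem_right _ _ (Ideal.mem_span_singleton.2 (pow_dvd_pow _ ?_))
  exact Nat.le_mul_of_pos_right e (by omega)

theorem ext_eval {J : Ideal A} {x y : AdicCompletion J A}
    (h : ∀ n, AdicCompletion.evalₐ J n x = AdicCompletion.evalₐ J n y) : x = y :=
  AdicCompletion.ext fun n => by
    have hle : J ^ n ≤ J ^ n • (⊤ : Ideal A) := (Ideal.mul_top (J ^ n)).ge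
    have h2 := congrArg (Ideal.Quotient.factor hle) (h n)
    rwa [AdicCompletion.factor_evalₐ_eq_eval, AdicCompletion.factor_evalₐ_eq_eval] at h2

/-- A representing sequence. -/
noncomputable def sec {J : Ideal A} (z : AdicCompletion J A) : AdicCompletion.AdicCauchySequence J A :=
  (AdicCompletion.mk_surjective J A z).choose

theorem eval_sec {J : Ideal A} (z : AdicCompletion J A) (n : ℕ) :
    AdicCompletion.evalₐ J n z = Ideal.Quotient.mk (J ^ n) ((sec z).val n) := by
  conv_lhs => rw [← (AdicCompletion.mk_surjective J A z).choose_spec]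
  exact AdicCompletion.evalₐ_mk J n _

theorem sec_sub_mem {J : Ideal A} (z : AdicCompletion J A) {m n : ℕ} (h : m ≤ n) :
    (sec z).val m - (sec z).val n ∈ J ^ m := by
  have := SModEq.sub_mem.1 ((sec z).property h)
  rwa [smul_eq_mul, Ideal.mul_top] at this

variable (ht : Ideal.span {q} ^ t ≤ I)

/-- The map to `A ⧸ I`. -/
noncomputable abbrev piI : AdicCompletion (Ideal.span {q}) A →+* A ⧸ I :=
  (Ideal.Quotient.factor ht).comp (AdicCompletion.evalₐ (Ideal.span {q}) t).toRingHom

theorem piI_sec (z : AdicCompletion (Ideal.span {q}) A) :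
    piI ht z = Ideal.Quotient.mk I ((sec z).val t) := by
  show Ideal.Quotient.factor ht (AdicCompletion.evalₐ (Ideal.span {q}) t z) = _
  rw [eval_sec, Ideal.Quotient.factor_mk]

theorem mem_of_mem_ker {z : AdicCompletion (Ideal.span {q}) A} (hz : z ∈ RingHom.ker (piI ht))
    {s : ℕ} (hs : t ≤ s) {a : A}
    (ha : AdicCompletion.evalₐ (Ideal.span {q}) s z = Ideal.Quotient.mk _ a) : a ∈ I := by
  rw [RingHom.mem_ker, piI_sec, Ideal.Quotient.eq_zero_iff_mem] at hz
  rw [eval_sec, Ideal.Quotient.eq] at ha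
  have h1 := ht (sec_sub_mem z hs)
  have h2 := ht (Ideal.pow_le_pow_right hs ha)
  have := sub_mem (sub_mem hz h1) h2
  simpa using this

include γ in
theorem cauchy_dpow {z : AdicCompletion (Ideal.span {q}) A} (hz : z ∈ RingHom.ker (piI ht)) (n e : ℕ) :
    γ.dpow n ((sec z).val (e + t)) ≡ γ.dpow n ((sec z).val (e + 1 + t))
      [SMOD (Ideal.span {q} ^ e • ⊤ : Submodule A A)] := by
  rw [SModEq.sub_mem, smul_eq_mul, Ideal.mul_top]
  exact dpow_sub_mem γ ht (mem_of_mem_ker ht hz (by omega) (eval_sec z _))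
    (sec_sub_mem z (by omega)) n

open Classical in
/-- The divided power operations on the completion. -/
noncomputable def cdp (n : ℕ) (z : AdicCompletion (Ideal.span {q}) A) : AdicCompletion (Ideal.span {q}) A :=
  if hz : z ∈ RingHom.ker (piI ht) then
    AdicCompletion.mk _ A (AdicCompletion.AdicCauchySequence.mk _ A
      (fun e => γ.dpow n ((sec z).val (e + t))) (cauchy_dpow γ ht hz n))
  else 0

theorem eval_cdp {z : AdicCompletion (Ideal.span {q}) A} (hz : z ∈ RingHom.ker (piI ht)) (n e : ℕ)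
    {a : A} (ha : AdicCompletion.evalₐ (Ideal.span {q}) (e + t) z = Ideal.Quotient.mk _ a) :
    AdicCompletion.evalₐ (Ideal.span {q}) e (cdp γ ht n z) = Ideal.Quotient.mk _ (γ.dpow n a) := by
  rw [cdp, dif_pos hz, AdicCompletion.evalₐ_mk]
  refine Ideal.Quotient.eq.2 (dpow_sub_mem γ ht (mem_of_mem_ker ht hz (by omega) ha) ?_ n)
  exact Ideal.Quotient.eq.1 ((eval_sec z _).symm.trans ha)

theorem exists_dp_completion :
    Function.Surjective (piI ht) ∧ ∃ δ : DividedPowers (RingHom.ker (piI ht)),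
      γ.IsDPMorphism δ (algebraMap A (AdicCompletion (Ideal.span {q}) A)) := by
  classical
  refine ⟨?_, ?_⟩
  · intro y
    obtain ⟨a, rfl⟩ := Ideal.Quotient.mk_surjective y
    exact ⟨algebraMap A _ a, by
      show Ideal.Quotient.factor ht (AdicCompletion.evalₐ (Ideal.span {q}) t (algebraMap A _ a)) = _
      rw [AlgHom.commutes, Ideal.Quotient.algebraMap_eq, Ideal.Quotient.factor_mk]⟩
  have hlift : ∀ (z : AdicCompletion (Ideal.span {q}) A) s, ∃ a,
      AdicCompletion.evalₐ (Ideal.span {q}) s z = Ideal.Quotient.mk _ a := fun z s => ⟨_, eval_sec z s⟩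
  have hup : ∀ (z : AdicCompletion (Ideal.span {q}) A) {s s' : ℕ}, s ≤ s' → ∀ {a : A},
      AdicCompletion.evalₐ (Ideal.span {q}) s' z = Ideal.Quotient.mk _ a →
      AdicCompletion.evalₐ (Ideal.span {q}) s z = Ideal.Quotient.mk _ a := fun z s s' h a ha => by
    rw [eval_sec, Ideal.Quotient.eq] at ha ⊢
    exact (sub_add_sub_cancel _ ((sec z).val s') a) ▸ add_mem (sec_sub_mem z h) (Ideal.pow_le_pow_right h ha)
  have hmemK : ∀ {n : ℕ} {z : AdicCompletion (Ideal.span {q}) A}, n ≠ 0 → z ∈ RingHom.ker (piI ht) →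
      cdp γ ht n z ∈ RingHom.ker (piI ht) := fun {n z} hn hz => by
    obtain ⟨a, ha⟩ := hlift z (t + t)
    rw [RingHom.mem_ker]
    show Ideal.Quotient.factor ht (AdicCompletion.evalₐ (Ideal.span {q}) t (cdp γ ht n z)) = 0
    rw [eval_cdp γ ht hz n t ha, Ideal.Quotient.factor_mk, Ideal.Quotient.eq_zero_iff_mem]
    exact γ.dpow_mem hn (mem_of_mem_ker ht hz (by omega) ha)
  refine ⟨{ dpow := cdp γ ht
            dpow_null := fun hx => dif_neg hx
            dpow_zero := fun {z} hz => ext_eval fun e => ?_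
            dpow_one := fun {z} hz => ext_eval fun e => ?_
            dpow_mem := fun hn hz => hmemK hn hz
            dpow_add := fun {n z w} hz hw => ext_eval fun e => ?_
            dpow_mul := fun {n c z} hz => ext_eval fun e => ?_
            mul_dpow := fun {m n z} hz => ext_eval fun e => ?_
            dpow_comp := fun {m n z} hn hz => ext_eval fun e => ?_ }, ?_, ?_⟩
  · obtain ⟨a, ha⟩ := hlift z (e + t)
    rw [eval_cdp γ ht hz 0 e ha, γ.dpow_zero (mem_of_mem_ker ht hz (by omega) ha), map_one, map_one]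
  · obtain ⟨a, ha⟩ := hlift z (e + t)
    rw [eval_cdp γ ht hz 1 e ha, γ.dpow_one (mem_of_mem_ker ht hz (by omega) ha), hup z (by omega) ha]
  · obtain ⟨a, ha⟩ := hlift z (e + t)
    obtain ⟨b, hb⟩ := hlift w (e + t)
    rw [eval_cdp γ ht (add_mem hz hw) n e (a := a + b) (by rw [map_add, ha, hb, map_add]),
      γ.dpow_add (mem_of_mem_ker ht hz (by omega) ha) (mem_of_mem_ker ht hw (by omega) hb), map_sum, map_sum]
    exact sum_congr rfl fun k _ => by
      rw [map_mul, map_mul, eval_cdp γ ht hz k.1 e ha, eval_cdp γ ht hw k.2 e hb]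
  · obtain ⟨a, ha⟩ := hlift z (e + t)
    obtain ⟨b, hb⟩ := hlift c (e + t)
    rw [eval_cdp γ ht (Ideal.mul_mem_left _ c hz) n e (a := b * a) (by rw [map_mul, ha, hb, map_mul]),
      γ.dpow_mul (mem_of_mem_ker ht hz (by omega) ha), map_mul, map_mul, map_pow, map_pow,
      hup c (by omega) hb, eval_cdp γ ht hz n e ha]
  · obtain ⟨a, ha⟩ := hlift z (e + t)
    rw [map_mul, eval_cdp γ ht hz m e ha, eval_cdp γ ht hz n e ha, map_mul, map_natCast,
      eval_cdp γ ht hz (m + n) e ha, ← map_mul, γ.mul_dpow (mem_of_mem_ker ht hz (by omega) ha), map_mul,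
      map_natCast]
  · obtain ⟨a, ha⟩ := hlift z (e + t + t)
    rw [eval_cdp γ ht (hmemK hn hz) m e (eval_cdp γ ht hz n (e + t) ha), map_mul, map_natCast,
      eval_cdp γ ht hz (m * n) e (hup z (by omega) ha),
      γ.dpow_comp hn (mem_of_mem_ker ht hz (by omega) ha), map_mul, map_natCast]
  · refine Ideal.map_le_iff_le_comap.2 fun a ha => ?_
    show piI ht (algebraMap A _ a) = 0
    show Ideal.Quotient.factor ht (AdicCompletion.evalₐ (Ideal.span {q}) t (algebraMap A _ a)) = 0
    rw [AlgHom.commutes, Ideal.Quotient.algebraMap_eq, Ideal.Quotient.factor_mk,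
      Ideal.Quotient.eq_zero_iff_mem]
    exact ha
  · intro n a ha
    refine ext_eval fun e => ?_
    have hz : algebraMap A (AdicCompletion (Ideal.span {q}) A) a ∈ RingHom.ker (piI ht) := by
      show Ideal.Quotient.factor ht (AdicCompletion.evalₐ (Ideal.span {q}) t (algebraMap A _ a)) = 0
      rw [AlgHom.commutes, Ideal.Quotient.algebraMap_eq, Ideal.Quotient.factor_mk,
        Ideal.Quotient.eq_zero_iff_mem]
      exact ha
    rw [eval_cdp γ ht hz n e (a := a) (AlgHom.commutes _ a), AlgHom.commutes, Ideal.Quotient.algebraMap_eq]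

end GrothLib.DPowPoly
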