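import Mathlib.RingTheory.DividedPowers.DPMorphism
import Mathlib.RingTheory.DividedPowers.SubDPIdeal

/-!
# Divided power envelopes, constructed inside a product
-/

set_option autoImplicit false
universe u

open DividedPowers

namespace GrothLib.DPowPoly

variable {A B : Type u} [CommRing A] [CommRing B] [Algebra A B] {I : Ideal A}

/-- Terms in the language of divided power rings over `B`. -/
inductive Tm (B : Type u) : Type u
  | of (b : B) : Tm B
  | add (s t : Tm B) : Tm B
  | mul (s t : Tm B) : Tm B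
  | dp (n : ℕ) (t : Tm B) : Tm B

/-- A test object for the envelope. -/
structure Tst (γ : DividedPowers I) (J : Ideal B) where
  C : Type u
  [instC : CommRing C]
  [instA : Algebra A C]
  K : Ideal C
  δ : DividedPowers K
  ψ : B →ₐ[A] C
  hδ : γ.IsDPMorphism δ (algebraMap A C)
  hψ : J.map ψ ≤ K

attribute [instance] Tst.instC Tst.instA

variable (γ : DividedPowers I) (J : Ideal B)

/-- Evaluation of a term in a test object. -/
noncomputable def Tst.eval (T : Tst γ J) : Tm B → T.C
  | .of b => T.ψ b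
  | .add s t => Tst.eval T s + Tst.eval T t
  | .mul s t => Tst.eval T s * Tst.eval T t
  | .dp n t => T.δ.dpow n (Tst.eval T t)

/-- The kernel data of a test object. -/
def Tst.code (T : Tst γ J) : (Tm B → Tm B → Prop) × (Tm B → Prop) :=
  (fun s t => T.eval γ J s = T.eval γ J t, fun t => T.eval γ J t ∈ T.K)

/-- The index type. -/
def Idx : Type u := {c : (Tm B → Tm B → Prop) × (Tm B → Prop) // ∃ T : Tst γ J, T.code γ J = c}

/-- A chosen test object. -/
noncomputable def pick (i : Idx γ J) : Tst γ J := i.2.choose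

theorem code_pick (i : Idx γ J) : (pick γ J i).code γ J = i.1 := i.2.choose_spec

/-- The product ring. -/
abbrev Big : Type u := ∀ i : Idx γ J, (pick γ J i).C

/-- The map of `B` to the product. -/
noncomputable def toBig : B →+* Big γ J := Pi.ringHom fun i => ((pick γ J i).ψ : B →+* (pick γ J i).C)

/-- Evaluation in the product. -/
noncomputable def evalBig (t : Tm B) : Big γ J := fun i => (pick γ J i).eval γ J t

theorem toBig_apply (b : B) : toBig γ J b = evalBig γ J (.of b) := rfl

/-- Terms using divided powers only where they are defined in every component. -/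
def Good : Tm B → Prop
  | .of _ => True
  | .add s t => Good s ∧ Good t
  | .mul s t => Good s ∧ Good t
  | .dp _ t => Good t ∧ ∀ i, (pick γ J i).eval γ J t ∈ (pick γ J i).K

/-- The envelope, as a subring of the product. -/
noncomputable def Env : Subring (Big γ J) where
  carrier := evalBig γ J '' {t | Good γ J t}
  zero_mem' := ⟨.of 0, trivial, funext fun i => map_zero (pick γ J i).ψ⟩
  one_mem' := ⟨.of 1, trivial, funext fun i => map_one (pick γ J i).ψ⟩
  add_mem' := by rintro _ _ ⟨s, hs, rfl⟩ ⟨t, ht, rfl⟩; exact ⟨.add s t, ⟨hs, ht⟩, rfl⟩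
  mul_mem' := by rintro _ _ ⟨s, hs, rfl⟩ ⟨t, ht, rfl⟩; exact ⟨.mul s t, ⟨hs, ht⟩, rfl⟩
  neg_mem' := by
    rintro _ ⟨s, hs, rfl⟩
    refine ⟨.mul (.of (-1)) s, ⟨trivial, hs⟩, funext fun i => ?_⟩
    show (pick γ J i).ψ (-1) * _ = -_
    rw [map_neg, map_one, neg_one_mul]
    rfl

/-- The ideal of the envelope. -/
noncomputable def EnvI : Ideal (Env γ J) where
  carrier := {x | ∀ i, (x : Big γ J) i ∈ (pick γ J i).K}
  zero_mem' i := zero_mem _
  add_mem' hx hy i := add_mem (hx i) (hy i)
  smul_mem' c x hx i := Ideal.mul_mem_left _ _ (hx i)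

theorem dp_mem (n : ℕ) {x : Env γ J} (hx : x ∈ EnvI γ J) :
    (fun i => (pick γ J i).δ.dpow n ((x : Big γ J) i)) ∈ Env γ J := by
  obtain ⟨x, t, ht, rfl⟩ := x
  exact ⟨.dp n t, ⟨ht, hx⟩, rfl⟩

open Classical in
/-- Componentwise divided powers. -/
noncomputable def envDP : DividedPowers (EnvI γ J) where
  dpow n x := if hx : x ∈ EnvI γ J then ⟨_, dp_mem γ J n hx⟩ else 0
  dpow_null hx := dif_neg hx
  dpow_zero {x} hx := by
    rw [dif_pos hx]; exact Subtype.ext (funext fun i => (pick γ J i).δ.dpow_zero (hx i))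
  dpow_one {x} hx := by
    rw [dif_pos hx]; exact Subtype.ext (funext fun i => (pick γ J i).δ.dpow_one (hx i))
  dpow_mem {n x} hn hx := by
    rw [dif_pos hx]; exact fun i => (pick γ J i).δ.dpow_mem hn (hx i)
  dpow_add {n x y} hx hy := by
    rw [dif_pos (add_mem hx hy)]
    refine Subtype.ext (funext fun i => ?_)
    simp only [dif_pos hx, dif_pos hy, AddSubmonoidClass.coe_finsetSum, Finset.sum_apply]
    exact (pick γ J i).δ.dpow_add (hx i) (hy i)
  dpow_mul {n a x} hx := by
    rw [dif_pos (Ideal.mul_mem_left _ a hx), dif_pos hx]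
    exact Subtype.ext (funext fun i => (pick γ J i).δ.dpow_mul (hx i))
  mul_dpow {m n x} hx := by
    rw [dif_pos hx, dif_pos hx, dif_pos hx]
    exact Subtype.ext (funext fun i => ((pick γ J i).δ.mul_dpow (hx i)).trans (by simp))
  dpow_comp {m n x} hn hx := by
    rw [dif_pos hx, dif_pos hx, dif_pos]
    · exact Subtype.ext (funext fun i => ((pick γ J i).δ.dpow_comp hn (hx i)).trans (by simp))
    · exact fun i => (pick γ J i).δ.dpow_mem hn (hx i)

theorem exists_envelope :
    ∃ (D : Type u) (_ : CommRing D) (_ : Algebra B D) (JD : Ideal D) (γD : DividedPowers JD),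
      J.map (algebraMap B D) ≤ JD ∧
      γ.IsDPMorphism γD ((algebraMap B D).comp (algebraMap A B)) ∧
      ∀ (C : Type u) [CommRing C] [Algebra A C] (K : Ideal C) (δ : DividedPowers K),
        γ.IsDPMorphism δ (algebraMap A C) →
        ∀ ψ : B →ₐ[A] C, J.map ψ ≤ K →
          ∃! χ : D →+* C, χ.comp (algebraMap B D) = ψ ∧ γD.IsDPMorphism δ χ := by
  let f : B →+* Env γ J := (toBig γ J).codRestrict (Env γ J) fun b => ⟨.of b, trivial, rfl⟩
  refine ⟨Env γ J, inferInstance, f.toAlgebra, EnvI γ J, envDP γ J, ?_, ⟨?_, ?_⟩, ?_⟩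
  · exact Ideal.map_le_iff_le_comap.2 fun b hb i => (pick γ J i).hψ (Ideal.mem_map_of_mem _ hb)
  · refine Ideal.map_le_iff_le_comap.2 fun a ha i => ?_
    show (pick γ J i).ψ (algebraMap A B a) ∈ _
    rw [AlgHom.commutes]
    exact (pick γ J i).hδ.1 (Ideal.mem_map_of_mem _ ha)
  · intro n a ha
    have hm : f (algebraMap A B a) ∈ EnvI γ J := fun i => by
      show (pick γ J i).ψ (algebraMap A B a) ∈ _
      rw [AlgHom.commutes]
      exact (pick γ J i).hδ.1 (Ideal.mem_map_of_mem _ ha)
    show (envDP γ J).dpow n (f (algebraMap A B a)) = f (algebraMap A B (γ.dpow n a))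
    simp only [envDP, dif_pos hm]
    refine Subtype.ext (funext fun i => ?_)
    show (pick γ J i).δ.dpow n ((pick γ J i).ψ (algebraMap A B a)) =
      (pick γ J i).ψ (algebraMap A B (γ.dpow n a))
    rw [AlgHom.commutes, AlgHom.commutes]
    exact (pick γ J i).hδ.2 a ha
  intro C _ _ K δ hδ ψ hψ
  let T : Tst γ J := ⟨C, K, δ, ψ, hδ, hψ⟩
  let i : Idx γ J := ⟨T.code γ J, T, rfl⟩
  have hc := code_pick γ J i
  have key : ∀ s t, evalBig γ J s = evalBig γ J t → T.eval γ J s = T.eval γ J t := fun s t h =>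
    (iff_of_eq (congrFun (congrFun (congrArg Prod.fst hc) s) t)).1 (congrFun h i)
  have hK : ∀ t, (evalBig γ J t) i ∈ (pick γ J i).K → T.eval γ J t ∈ K := fun t ht =>
    (iff_of_eq (congrFun (congrArg Prod.snd hc) t)).1 ht
  have hsec : ∀ x : Env γ J, evalBig γ J x.2.choose = x := fun x => x.2.choose_spec.2
  have hx : ∀ (x : Env γ J) (t), (x : Big γ J) = evalBig γ J t →
      T.eval γ J x.2.choose = T.eval γ J t := fun x t h => key _ _ ((hsec x).trans h)
  let χ : Env γ J →+* C :=
    { toFun := fun x => T.eval γ J x.2.choose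
      map_one' := (hx 1 (.of 1) (funext fun j => (map_one (pick γ J j).ψ).symm)).trans (map_one ψ)
      map_zero' := (hx 0 (.of 0) (funext fun j => (map_zero (pick γ J j).ψ).symm)).trans (map_zero ψ)
      map_add' := fun x y => hx (x + y) (.add x.2.choose y.2.choose)
        (funext fun j => (congrArg₂ (· + ·) (congrFun (hsec x) j) (congrFun (hsec y) j)).symm)
      map_mul' := fun x y => hx (x * y) (.mul x.2.choose y.2.choose)
        (funext fun j => (congrArg₂ (· * ·) (congrFun (hsec x) j) (congrFun (hsec y) j)).symm) }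
  have hχ : (envDP γ J).IsDPMorphism δ χ := by
    have hmem : ∀ x ∈ EnvI γ J, χ x ∈ K := fun x hm => hK _ (by rw [hsec]; exact hm i)
    refine ⟨Ideal.map_le_iff_le_comap.2 hmem, fun {n} x hm => ?_⟩
    simp only [envDP, dif_pos hm]
    refine (hx ⟨_, dp_mem γ J n hm⟩ (.dp n x.2.choose) (funext fun j => ?_)).symm
    exact (congrArg _ (congrFun (hsec x) j)).symm
  refine ⟨χ, ⟨RingHom.ext fun b => hx (f b) (.of b) rfl, hχ⟩, fun χ' h => RingHom.ext fun x => ?_⟩
  obtain ⟨h1, h2⟩ := h
  have main : ∀ (t : Tm B), Good γ J t → ∀ (y : Env γ J), (y : Big γ J) = evalBig γ J t →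
      χ' y = χ y := by
    intro t
    induction t with
    | of b =>
      intro _ y hy
      obtain rfl : y = f b := Subtype.ext hy
      exact (DFunLike.congr_fun h1 b).trans (hx (f b) (.of b) rfl).symm
    | add s t hs ht =>
      intro hg y hy
      obtain rfl : y = ⟨evalBig γ J s, s, hg.1, rfl⟩ + ⟨evalBig γ J t, t, hg.2, rfl⟩ := Subtype.ext hy
      rw [map_add, map_add, hs hg.1 _ rfl, ht hg.2 _ rfl]
    | mul s t hs ht =>
      intro hg y hy
      obtain rfl : y = ⟨evalBig γ J s, s, hg.1, rfl⟩ * ⟨evalBig γ J t, t, hg.2, rfl⟩ := Subtype.ext hy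
      rw [map_mul, map_mul, hs hg.1 _ rfl, ht hg.2 _ rfl]
    | dp n t ht =>
      intro hg y hy
      let z : Env γ J := ⟨evalBig γ J t, t, hg.1, rfl⟩
      have hz : z ∈ EnvI γ J := hg.2
      obtain rfl : y = (envDP γ J).dpow n z := by
        simp only [envDP, dif_pos hz]; exact Subtype.ext hy
      rw [← h2.2 _ hz, ← hχ.2 _ hz, ht hg.1 _ rfl]
  exact main _ x.2.choose_spec.1 x (hsec x).symm

end GrothLib.DPowPoly
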