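import Groth.Agent.Lib.DPowPoly.Poly
import Mathlib.RingTheory.PowerSeries.Substitution
import Mathlib.RingTheory.Flat.Basic

/-!
# Divided powers from generators, on sums of ideals, and flat extensions
-/

set_option autoImplicit false
universe u v w

open DividedPowers Finset

namespace GrothLib.DPowPoly

section Gens
variable {A : Type u} [CommRing A]

theorem exists_dp_of_generators (I : Ideal A) (S : Set A)
    (hS : Ideal.span S = I) (d : ℕ → A → A) (h_null : ∀ (n : ℕ) (x : A), x ∉ I → d n x = 0)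
    (h_zero : ∀ x ∈ I, d 0 x = 1) (h_one : ∀ x ∈ I, d 1 x = x)
    (h_mem : ∀ (n : ℕ) (x : A), n ≠ 0 → x ∈ I → d n x ∈ I)
    (h_add : ∀ (n : ℕ) (x y : A), x ∈ I → y ∈ I →
      d n (x + y) = (Finset.antidiagonal n).sum fun k => d k.1 x * d k.2 y)
    (h_mul : ∀ (n : ℕ) (a x : A), x ∈ I → d n (a * x) = a ^ n * d n x)
    (h_mul_dpow : ∀ (m n : ℕ) (x : A), x ∈ S → d m x * d n x = (m + n).choose m * d (m + n) x)
    (h_comp : ∀ (m n : ℕ) (x : A), n ≠ 0 → x ∈ S →
      d m (d n x) = Nat.uniformBell m n * d (m * n) x) :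
    ∃ γ : DividedPowers I, γ.dpow = d := by
  have h00 : ∀ k, d k 0 = if k = 0 then 1 else 0 := fun k => by
    split_ifs with hk
    · rw [hk, h_zero 0 (zero_mem _)]
    · rw [← mul_zero (0 : A), h_mul k 0 0 (zero_mem _), zero_pow hk, zero_mul, zero_mul]
  have main : ∀ z ∈ I, (∀ m n, d m z * d n z = (m + n).choose m * d (m + n) z) ∧
      ∀ m n, n ≠ 0 → d m (d n z) = Nat.uniformBell m n * d (m * n) z := by
    intro z hz
    rw [← hS] at hz
    induction hz using Submodule.span_induction with
    | mem x hx => exact ⟨fun m n => h_mul_dpow m n x hx, fun m n hn => h_comp m n x hn hx⟩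
    | zero =>
      refine ⟨fun m n => ?_, fun m n hn => ?_⟩
      · rcases m with _ | m <;> rcases n with _ | n <;> simp [h00]
      · rw [h00 n, if_neg hn, h00, h00]
        rcases m with _ | m <;> simp [Nat.uniformBell_zero_left, hn]
    | add x y hx hy ihx ihy =>
      change x ∈ Ideal.span S at hx
      change y ∈ Ideal.span S at hy
      rw [hS] at hx hy
      let D := modelPres.{0} (Fin 2)
      obtain ⟨γ, hγ⟩ := D.exists_dp
      have hsI : ∀ l, (![x, y] : Fin 2 → A) l ∈ I := by intro l; fin_cases l <;> assumption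
      have hgood : ∀ l, (∀ m n, d m (![x, y] l) * d n (![x, y] l) =
            ((m + n).choose m : A) * d (m + n) (![x, y] l)) ∧
          ∀ m n, n ≠ 0 → d m (d n (![x, y] l)) = Nat.uniformBell m n * d (m * n) (![x, y] l) := by
        intro l; fin_cases l <;> assumption
      let φ := D.hom (fun l n => d n (![x, y] l)) (fun l => h_zero _ (hsI l)) fun l n m => (hgood l).1 n m
      have hφx : ∀ l n, φ (D.x l n) = d n (![x, y] l) := fun l n => Pres.hom_x D _ _ _ l n
      let M : Ideal (model.{0} (Fin 2)) :=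
        { carrier := {u | u ∈ D.aug ∧ φ u ∈ I ∧ ∀ k, d k (φ u) = φ (γ.dpow k u)}
          zero_mem' := ⟨zero_mem _, (map_zero φ).symm ▸ zero_mem _, fun k => by
            rw [map_zero, h00]
            split_ifs with hk
            · rw [hk, γ.dpow_zero (zero_mem _), map_one]
            · rw [γ.dpow_eval_zero hk, map_zero]⟩
          add_mem' := by
            rintro a b ⟨ha, ha', ha''⟩ ⟨hb, hb', hb''⟩
            refine ⟨add_mem ha hb, (map_add φ a b).symm ▸ add_mem ha' hb', fun k => ?_⟩
            rw [map_add, h_add k _ _ ha' hb', γ.dpow_add ha hb, map_sum]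
            exact sum_congr rfl fun p _ => by rw [map_mul, ha'', hb'']
          smul_mem' := by
            rintro c a ⟨ha, ha', ha''⟩
            refine ⟨Ideal.mul_mem_left _ _ ha, (map_mul φ c a).symm ▸ Ideal.mul_mem_left _ _ ha', fun k => ?_⟩
            rw [smul_eq_mul, map_mul, h_mul k _ _ ha', γ.dpow_mul ha, map_mul, map_pow, ha''] }
      have hM : D.aug ≤ M := Ideal.span_le.2 (by
        rintro _ ⟨l, n, hn, rfl⟩
        refine ⟨D.x_mem l hn, (hφx l n).symm ▸ h_mem n _ (by omega) (hsI l), fun k => ?_⟩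
        rw [hφx, (hgood l).2 k n (by omega), ← hγ l n, γ.dpow_comp (by omega) (D.x_mem l le_rfl),
          map_mul, map_natCast, hγ, hφx])
      have hu : D.x 0 1 + D.x 1 1 ∈ D.aug := add_mem (D.x_mem 0 le_rfl) (D.x_mem 1 le_rfl)
      have e : x + y = φ (D.x 0 1 + D.x 1 1) := by
        rw [map_add, hφx, hφx, h_one _ (hsI 0), h_one _ (hsI 1)]; rfl
      refine ⟨fun m n => ?_, fun m n hn => ?_⟩
      · rw [e, (hM hu).2.2, (hM hu).2.2, (hM hu).2.2, ← map_mul, γ.mul_dpow hu, map_mul, map_natCast]
      · rw [e, (hM hu).2.2, (hM (γ.dpow_mem hn hu)).2.2, (hM hu).2.2, γ.dpow_comp hn hu, map_mul,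
          map_natCast]
    | smul a x hx ih =>
      change x ∈ Ideal.span S at hx
      rw [hS] at hx
      refine ⟨fun m n => ?_, fun m n hn => ?_⟩
      · rw [smul_eq_mul, h_mul m a x hx, h_mul n a x hx, h_mul (m + n) a x hx, mul_mul_mul_comm, ih.1,
          pow_add]
        ring
      · rw [smul_eq_mul, h_mul n a x hx, h_mul m (a ^ n) _ (h_mem n x hn hx), ih.2 m n hn,
          h_mul (m * n) a x hx, ← pow_mul, mul_comm n m]
        ring
  exact ⟨{ dpow := d
           dpow_null := fun hx => h_null _ _ hx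
           dpow_zero := fun hx => h_zero _ hx
           dpow_one := fun hx => h_one _ hx
           dpow_mem := fun hn hx => h_mem _ _ hn hx
           dpow_add := fun hx hy => h_add _ _ _ hx hy
           dpow_mul := fun hx => h_mul _ _ _ hx
           mul_dpow := fun hx => (main _ hx).1 _ _
           dpow_comp := fun hn hx => (main _ hx).2 _ _ hn }, rfl⟩

theorem exp_rescale {I : Ideal A} (γ : DividedPowers I) (a : A) {x : A} (hx : x ∈ I) :
    γ.exp (a * x) = PowerSeries.rescale a (γ.exp x) := by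
  ext n
  simp only [DividedPowers.exp, PowerSeries.coeff_rescale, PowerSeries.coeff_mk]
  exact γ.dpow_mul hx

theorem exp_zero {I : Ideal A} (γ : DividedPowers I) : γ.exp 0 = 1 := by
  ext n
  simp only [DividedPowers.exp, PowerSeries.coeff_mk, PowerSeries.coeff_one]
  split_ifs with h
  · rw [h, γ.dpow_zero (zero_mem _)]
  · rw [γ.dpow_eval_zero h]

open Classical in
theorem existsUnique_dp_sup {I J : Ideal A} (γ : DividedPowers I)
    (δ : DividedPowers J) (h : ∀ (n : ℕ) (x : A), x ∈ I ⊓ J → γ.dpow n x = δ.dpow n x) :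
    ∃! ε : DividedPowers (I ⊔ J),
      (∀ (n : ℕ) (x : A), x ∈ I → ε.dpow n x = γ.dpow n x) ∧
        (∀ (n : ℕ) (x : A), x ∈ J → ε.dpow n x = δ.dpow n x) := by
  have hd : ∀ z ∈ I ⊔ J, ∃ p : A × A, p.1 ∈ I ∧ p.2 ∈ J ∧ p.1 + p.2 = z := fun z hz => by
    obtain ⟨x, hx, y, hy, e⟩ := Submodule.mem_sup.1 hz
    exact ⟨(x, y), hx, hy, e⟩
  let d : ℕ → A → A := fun n z => if hz : z ∈ I ⊔ J then
    PowerSeries.coeff n (γ.exp (hd z hz).choose.1 * δ.exp (hd z hz).choose.2) else 0
  have hwd : ∀ n x y, x ∈ I → y ∈ J → d n (x + y) = PowerSeries.coeff n (γ.exp x * δ.exp y) := by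
    intro n x y hx hy
    have hz : x + y ∈ I ⊔ J := Submodule.add_mem_sup hx hy
    simp only [d, dif_pos hz]
    generalize hp : (hd (x + y) hz).choose = p
    obtain ⟨h1, h2, h3⟩ := hp ▸ (hd (x + y) hz).choose_spec
    have hwI : p.1 - x ∈ I := sub_mem h1 hx
    have e : y = p.2 + (p.1 - x) := by linear_combination -h3
    have hwJ : p.1 - x ∈ J := by
      have : p.1 - x = y - p.2 := by linear_combination h3
      exact this ▸ sub_mem hy h2
    have hexp : γ.exp (p.1 - x) = δ.exp (p.1 - x) := PowerSeries.ext fun k => by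
      simp only [DividedPowers.exp, PowerSeries.coeff_mk]
      exact h k _ ⟨hwI, hwJ⟩
    have e1 : γ.exp p.1 = γ.exp x * γ.exp (p.1 - x) := by
      rw [← γ.exp_add hx hwI, add_sub_cancel]
    rw [e1, e, δ.exp_add h2 hwJ, hexp]
    ring_nf
  have hI : ∀ n x, x ∈ I → d n x = γ.dpow n x := fun n x hx => by
    have := hwd n x 0 hx (zero_mem _)
    rwa [add_zero, exp_zero, mul_one, DividedPowers.exp, PowerSeries.coeff_mk] at this
  have hJ : ∀ n x, x ∈ J → d n x = δ.dpow n x := fun n x hx => by
    have := hwd n 0 x (zero_mem _) hx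
    rwa [zero_add, exp_zero, one_mul, DividedPowers.exp, PowerSeries.coeff_mk] at this
  have hspan : Ideal.span ((I : Set A) ∪ J) = I ⊔ J := by rw [Ideal.span_union, Ideal.span_eq, Ideal.span_eq]
  obtain ⟨ε, hε⟩ := exists_dp_of_generators (I ⊔ J) ((I : Set A) ∪ J) hspan d (fun n x hx => dif_neg hx)
    (fun z hz => by
      obtain ⟨⟨x, y⟩, hx, hy, rfl⟩ := hd z hz
      rw [hwd 0 x y hx hy, PowerSeries.coeff_mul]
      simp [DividedPowers.exp, γ.dpow_zero hx, δ.dpow_zero hy])
    (fun z hz => by
      obtain ⟨⟨x, y⟩, hx, hy, rfl⟩ := hd z hz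
      rw [hwd 1 x y hx hy, PowerSeries.coeff_mul, show antidiagonal (1 : ℕ) = {(0, 1), (1, 0)} from rfl,
        Finset.sum_pair (by decide)]
      simp [DividedPowers.exp, γ.dpow_zero hx, δ.dpow_zero hy, γ.dpow_one hx,
        δ.dpow_one hy, add_comm])
    (fun n z hn hz => by
      obtain ⟨⟨x, y⟩, hx, hy, rfl⟩ := hd z hz
      rw [hwd n x y hx hy, PowerSeries.coeff_mul]
      refine sum_mem fun p hp => ?_
      simp only [DividedPowers.exp, PowerSeries.coeff_mk]
      rw [mem_antidiagonal] at hp
      rcases eq_or_ne p.1 0 with h0 | h0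
      · exact Ideal.mul_mem_left _ _ (Submodule.mem_sup_right (δ.dpow_mem (by omega) hy))
      · exact Ideal.mul_mem_right _ _ (Submodule.mem_sup_left (γ.dpow_mem h0 hx)))
    (fun n z z' hz hz' => by
      obtain ⟨⟨x, y⟩, hx, hy, rfl⟩ := hd z hz
      obtain ⟨⟨x', y'⟩, hx', hy', rfl⟩ := hd z' hz'
      rw [add_add_add_comm, hwd n _ _ (add_mem hx hx') (add_mem hy hy'), γ.exp_add hx hx',
        δ.exp_add hy hy', mul_mul_mul_comm, PowerSeries.coeff_mul]
      exact sum_congr rfl fun p _ => by rw [hwd _ x y hx hy, hwd _ x' y' hx' hy'])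
    (fun n a z hz => by
      obtain ⟨⟨x, y⟩, hx, hy, rfl⟩ := hd z hz
      rw [mul_add, hwd n _ _ (I.mul_mem_left _ hx) (J.mul_mem_left _ hy), exp_rescale γ a hx,
        exp_rescale δ a hy, ← map_mul, PowerSeries.coeff_rescale, hwd n x y hx hy])
    (fun m n x hx => by
      rcases hx with hx | hx
      · simp only [hI _ x hx]; exact γ.mul_dpow hx
      · simp only [hJ _ x hx]; exact δ.mul_dpow hx)
    (fun m n x hn hx => by
      rcases hx with hx | hx
      · simp only [hI _ x hx, hI _ _ (γ.dpow_mem hn hx)]; exact γ.dpow_comp hn hx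
      · simp only [hJ _ x hx, hJ _ _ (δ.dpow_mem hn hx)]; exact δ.dpow_comp hn hx)
  refine ⟨ε, ⟨fun n x hx => hε ▸ hI n x hx, fun n x hx => hε ▸ hJ n x hx⟩, fun ε' h' => ?_⟩
  refine ε.dpow_eq_from_gens ε' hspan.symm fun {n} x hx => ?_
  rcases hx with hx | hx
  · rw [h'.1 n x hx, hε]; exact hI n x hx
  · rw [h'.2 n x hx, hε]; exact hJ n x hx

end Gens

section Flat
variable {A : Type u} {B : Type v} [CommRing A] [CommRing B] [Algebra A B] {I : Ideal A}
  (γ : DividedPowers I)

/-- The exponential as a unit of power series over `B`. -/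
noncomputable def expU (b : B) (i : I) : (PowerSeries B)ˣ where
  val := PowerSeries.rescale b (PowerSeries.map (algebraMap A B) (γ.exp i))
  inv := PowerSeries.rescale b (PowerSeries.map (algebraMap A B) (γ.exp (-i : I)))
  val_inv := by rw [← map_mul, ← map_mul, ← γ.exp_add i.2 (-i : I).2]; simp [exp_zero]
  inv_val := by rw [← map_mul, ← map_mul, ← γ.exp_add (-i : I).2 i.2]; simp [exp_zero]

theorem coeff_expU (n : ℕ) (b : B) (i : I) :
    PowerSeries.coeff n (expU γ b i : PowerSeries B) = b ^ n * algebraMap A B (γ.dpow n i) := by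
  simp [expU, DividedPowers.exp, PowerSeries.coeff_rescale]

theorem expU_add_left (b c : B) (i : I) : expU γ (b + c) i = expU γ b i * expU γ c i := by
  refine Units.ext (PowerSeries.ext fun n => ?_)
  rw [coeff_expU, Units.val_mul, PowerSeries.coeff_mul, (Commute.all b c).add_pow', Finset.sum_mul]
  refine sum_congr rfl fun p hp => ?_
  rw [coeff_expU, coeff_expU, mul_mul_mul_comm, ← map_mul, γ.mul_dpow i.2, mem_antidiagonal.1 hp, map_mul,
    map_natCast, nsmul_eq_mul]
  ring

theorem expU_add_right (b : B) (i j : I) : expU γ b (i + j) = expU γ b i * expU γ b j :=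
  Units.ext (by simp only [expU, Units.val_mul, Submodule.coe_add, γ.exp_add i.2 j.2, map_mul])

/-- The additive map on the tensor product. -/
noncomputable def bigExp : TensorProduct A B I →+ Additive (PowerSeries B)ˣ :=
  TensorProduct.liftAddHom
    (AddMonoidHom.mk' (fun b : B => AddMonoidHom.mk' (fun i => Additive.ofMul (expU γ b i))
        fun i j => congrArg Additive.ofMul (expU_add_right γ b i j))
      fun b c => AddMonoidHom.ext fun i => congrArg Additive.ofMul (expU_add_left γ b c i))
    fun a b i => congrArg Additive.ofMul (Units.ext (PowerSeries.ext fun n => by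
      rw [coeff_expU, coeff_expU]
      simp only [Submodule.coe_smul, smul_eq_mul, Algebra.smul_def, γ.dpow_mul i.2, map_mul, map_pow, mul_pow]
      ring))

/-- The coefficients of the exponential. -/
noncomputable def tD (n : ℕ) (t : TensorProduct A B I) : B :=
  PowerSeries.coeff n ((bigExp γ t).toMul : PowerSeries B)

theorem tD_tmul (n : ℕ) (b : B) (i : I) :
    tD γ n (TensorProduct.tmul A b i) = b ^ n * algebraMap A B (γ.dpow n i) := by
  exact coeff_expU γ n b i

theorem tD_add (n : ℕ) (s t : TensorProduct A B I) :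
    tD γ n (s + t) = ∑ p ∈ antidiagonal n, tD γ p.1 s * tD γ p.2 t := by
  simp [tD, map_add, PowerSeries.coeff_mul]

theorem tD_zero_right (n : ℕ) : tD γ n (0 : TensorProduct A B I) = if n = 0 then 1 else 0 := by
  simp [tD, PowerSeries.coeff_one]

theorem tD_zero (t : TensorProduct A B I) : tD γ 0 t = 1 := by
  induction t using TensorProduct.induction_on with
  | zero => simp [tD_zero_right]
  | tmul b i => simp [tD_tmul, γ.dpow_zero i.2]
  | add s t hs ht => simp [tD_add, hs, ht]

theorem tD_mem {n : ℕ} (hn : n ≠ 0) (t : TensorProduct A B I) : tD γ n t ∈ I.map (algebraMap A B) := by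
  induction t using TensorProduct.induction_on generalizing n with
  | zero => simp [tD_zero_right, hn]
  | tmul b i =>
    rw [tD_tmul]
    exact Ideal.mul_mem_left _ _ (Ideal.mem_map_of_mem _ (γ.dpow_mem hn i.2))
  | add s t hs ht =>
    rw [tD_add]
    refine sum_mem fun p hp => ?_
    rw [mem_antidiagonal] at hp
    rcases eq_or_ne p.1 0 with h0 | h0
    · exact Ideal.mul_mem_left _ _ (ht (by omega))
    · exact Ideal.mul_mem_right _ _ (hs h0)

theorem tD_smul (n : ℕ) (a : B) (t : TensorProduct A B I) : tD γ n (a • t) = a ^ n * tD γ n t := by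
  induction t using TensorProduct.induction_on generalizing n with
  | zero =>
    rw [smul_zero, tD_zero_right]
    split_ifs with h <;> simp [h]
  | tmul b i => rw [TensorProduct.smul_tmul', tD_tmul, tD_tmul, smul_eq_mul, mul_pow, mul_assoc]
  | add s t hs ht =>
    rw [smul_add, tD_add, tD_add, Finset.mul_sum]
    refine sum_congr rfl fun p hp => ?_
    rw [hs, ht, ← mem_antidiagonal.1 hp, pow_add]
    ring

include γ in
theorem exists_dp_of_flat [Module.Flat A B] :
    ∃ δ : DividedPowers (I.map (algebraMap A B)), γ.IsDPMorphism δ (algebraMap A B) := by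
  classical
  let j : TensorProduct A B I →ₗ[A] B :=
    (TensorProduct.rid A B).toLinearMap.comp (LinearMap.lTensor B I.subtype)
  have hjt : ∀ b i, j (TensorProduct.tmul A b i) = b * algebraMap A B i := fun b i => by
    simp [j, Algebra.smul_def, mul_comm]
  have hinj : Function.Injective j :=
    (TensorProduct.rid A B).injective.comp
      (Module.Flat.lTensor_preserves_injective_linearMap I.subtype I.injective_subtype)
  have hjs : ∀ (a : B) (t : TensorProduct A B I), j (a • t) = a * j t := fun a t => by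
    induction t using TensorProduct.induction_on with
    | zero => simp
    | tmul b i => rw [TensorProduct.smul_tmul', hjt, hjt, smul_eq_mul, mul_assoc]
    | add s t hs ht => rw [smul_add, map_add, map_add, hs, ht, mul_add]
  have hsurj : ∀ z ∈ I.map (algebraMap A B), ∃ t, j t = z := by
    intro z hz
    induction hz using Submodule.span_induction with
    | mem x hx =>
      obtain ⟨a, ha, rfl⟩ := hx
      exact ⟨TensorProduct.tmul A 1 ⟨a, ha⟩, by rw [hjt, one_mul]⟩
    | zero => exact ⟨0, map_zero j⟩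
    | add x y _ _ hx hy =>
      obtain ⟨s, rfl⟩ := hx
      obtain ⟨t, rfl⟩ := hy
      exact ⟨s + t, map_add j s t⟩
    | smul a x _ hx =>
      obtain ⟨s, rfl⟩ := hx
      exact ⟨a • s, hjs a s⟩
  have hrange : ∀ t, j t ∈ I.map (algebraMap A B) := fun t => by
    induction t using TensorProduct.induction_on with
    | zero => simp
    | tmul b i => rw [hjt]; exact Ideal.mul_mem_left _ _ (Ideal.mem_map_of_mem _ i.2)
    | add s t hs ht => rw [map_add]; exact add_mem hs ht
  let d : ℕ → B → B := fun n z =>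
    if hz : z ∈ I.map (algebraMap A B) then tD γ n (hsurj z hz).choose else 0
  have hd : ∀ n t, d n (j t) = tD γ n t := fun n t => by
    simp only [d, dif_pos (hrange t)]
    exact congrArg _ (hinj (hsurj _ (hrange t)).choose_spec)
  have hf : ∀ n a, a ∈ I → d n (algebraMap A B a) = algebraMap A B (γ.dpow n a) := fun n a ha => by
    have := hd n (TensorProduct.tmul A 1 ⟨a, ha⟩)
    rwa [hjt, one_mul, tD_tmul, one_pow, one_mul] at this
  obtain ⟨δ, hδ⟩ := exists_dp_of_generators (I.map (algebraMap A B)) (algebraMap A B '' I) rfl d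
    (fun n x hx => dif_neg hx)
    (fun z hz => by obtain ⟨t, rfl⟩ := hsurj z hz; rw [hd, tD_zero])
    (fun z hz => by
      obtain ⟨t, rfl⟩ := hsurj z hz
      rw [hd]
      clear hz
      induction t using TensorProduct.induction_on with
      | zero => simp [tD_zero_right]
      | tmul b i => rw [tD_tmul, pow_one, γ.dpow_one i.2, hjt]
      | add s t hs ht =>
        rw [tD_add, map_add, show antidiagonal (1 : ℕ) = {(0, 1), (1, 0)} from rfl,
          Finset.sum_pair (by decide)]
        simp [ tD_zero, hs, ht, add_comm])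
    (fun n z hn hz => by obtain ⟨t, rfl⟩ := hsurj z hz; rw [hd]; exact tD_mem γ hn t)
    (fun n z z' hz hz' => by
      obtain ⟨s, rfl⟩ := hsurj z hz
      obtain ⟨t, rfl⟩ := hsurj z' hz'
      rw [← map_add, hd, tD_add]
      simp only [hd])
    (fun n a z hz => by
      obtain ⟨t, rfl⟩ := hsurj z hz
      rw [← hjs, hd, hd, tD_smul])
    (fun m n x hx => by
      obtain ⟨a, ha, rfl⟩ := hx
      rw [hf _ a ha, hf _ a ha, hf _ a ha, ← map_mul, γ.mul_dpow ha, map_mul, map_natCast])
    (fun m n x hn hx => by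
      obtain ⟨a, ha, rfl⟩ := hx
      rw [hf _ a ha, hf _ _ (γ.dpow_mem hn ha), hf _ a ha, γ.dpow_comp hn ha, map_mul, map_natCast])
  exact ⟨δ, le_rfl, fun a ha => hδ ▸ hf _ a ha⟩

theorem dp_ext_unique {δ δ' : DividedPowers (I.map (algebraMap A B))}
    (h : γ.IsDPMorphism δ (algebraMap A B)) (h' : γ.IsDPMorphism δ' (algebraMap A B)) : δ = δ' :=
  δ'.dpow_eq_from_gens δ rfl fun {_} x hx => by
    obtain ⟨a, ha, rfl⟩ := hx
    rw [h.2 a ha, h'.2 a ha]

end Flat

theorem existsUnique_dp_compatible {R : Type u} [CommRing R] {I : Ideal R} (γ : DividedPowers I)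
    {P : Type v} [CommRing P] [Algebra R P] {Λ : Type w} (D : Pres R P Λ) (δplus : DividedPowers D.aug)
    (hδ : ∀ l n, δplus.dpow n (D.x l 1) = D.x l n) :
    ∃! δ : DividedPowers (I.map (algebraMap R P) ⊔ D.aug),
      γ.IsDPMorphism δ (algebraMap R P) ∧ ∀ (n : ℕ) (y : P), y ∈ D.aug → δ.dpow n y = δplus.dpow n y := by
  classical
  have := Module.Free.of_basis D.b
  obtain ⟨δI, hδI⟩ := exists_dp_of_flat (B := P) γ
  have hagree : ∀ n y, y ∈ I.map (algebraMap R P) ⊓ D.aug → δI.dpow n y = δplus.dpow n y := by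
    intro n y hy
    have hc : ∀ e, D.b.repr y e ∈ I := by
      have : y ∈ I • (⊤ : Submodule R P) := by rw [Ideal.smul_top_eq_map]; exact hy.1
      exact Submodule.smul_induction_on (p := fun y => ∀ e, D.b.repr y e ∈ I) this
        (fun r hr m _ e => by rw [map_smul, Finsupp.smul_apply]; exact I.mul_mem_right _ hr)
        fun a b ha hb e => by rw [map_add, Finsupp.add_apply]; exact add_mem (ha e) (hb e)
    refine δI.coincide_on_smul δplus ?_
    rw [← D.b.linearCombination_repr y, Finsupp.linearCombination_apply]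
    refine Submodule.sum_mem _ fun e he => ?_
    simp only [Algebra.smul_def]
    exact Ideal.mul_mem_mul (Ideal.mem_map_of_mem _ (hc e))
      (D.b_mem fun h => Finsupp.mem_support_iff.1 he (h ▸ D.mem_aug.1 hy.2))
  obtain ⟨ε, ⟨h1, h2⟩, huniq⟩ := existsUnique_dp_sup δI δplus hagree
  refine ⟨ε, ⟨⟨le_sup_left, fun a ha => (h1 _ _ (Ideal.mem_map_of_mem _ ha)).trans (hδI.2 a ha)⟩,
    fun n y hy => h2 n y hy⟩, fun ε' h => ?_⟩
  have hs : I.map (algebraMap R P) ⊔ D.aug = Ideal.span (algebraMap R P '' I ∪ D.aug) := by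
    rw [Ideal.span_union, Ideal.span_eq]; rfl
  refine ε.dpow_eq_from_gens ε' hs fun {n} x hx => ?_
  rcases hx with ⟨a, ha, rfl⟩ | hx
  · rw [h.1.2 a ha, h1 _ _ (Ideal.mem_map_of_mem _ ha), hδI.2 a ha]
  · rw [h.2 n x hx, h2 n x hx]

end GrothLib.DPowPoly
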