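import Groth.Agent.Lib.DPowPoly.Poly
import Mathlib.Data.Nat.Prime.Factorial

/-!
# Divided powers from the `p`-th divided power over `ℤ_(p)`-algebras
-/

set_option autoImplicit false
universe u

open DividedPowers Finset

namespace GrothLib.DPowPoly.OfPrime

/-- `n! / (p! ^ (n / p) * (n / p)!)`. -/
def wn (p n : ℕ) : ℕ :=
  Nat.uniformBell (n / p) p * n.choose (n % p) * (n % p).factorial

theorem wn_spec {p : ℕ} (hp : p ≠ 0) (n : ℕ) :
    n.factorial = p.factorial ^ (n / p) * (n / p).factorial * wn p n := by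
  have h1 : Nat.uniformBell (n / p) p * p.factorial ^ (n / p) * (n / p).factorial = (p * (n / p)).factorial := by
    rw [mul_comm p]; exact Nat.uniformBell_mul_eq _ hp
  have h2 := Nat.choose_mul_factorial_mul_factorial (Nat.mod_le n p)
  have h3 : n - n % p = p * (n / p) := by have := Nat.mod_add_div n p; omega
  rw [h3, ← h1] at h2
  rw [← h2, wn]; ring

theorem wn_zero (p : ℕ) : wn p 0 = 1 := by simp [wn, Nat.uniformBell_zero_left]

theorem wn_one {p : ℕ} (hp : 2 ≤ p) : wn p 1 = 1 := by
  simp [wn, Nat.div_eq_of_lt hp, Nat.mod_eq_of_lt hp, Nat.uniformBell_zero_left]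

theorem wn_self {p : ℕ} (hp : 1 < p) : wn p p = 1 := by
  simp [wn, Nat.div_self (by omega : 0 < p), Nat.uniformBell_one_left]

theorem not_dvd_wn {p : ℕ} (hp : p.Prime) (n : ℕ) : ¬ p ∣ wn p n := by
  intro h
  have hk : ∀ m, padicValNat p (p * m).factorial = padicValNat p m.factorial + m :=
    fun m => by have := Fact.mk hp; exact padicValNat_factorial_mul m
  have := Fact.mk hp
  have e := congrArg (padicValNat p) (wn_spec hp.ne_zero n)
  have hw : wn p n ≠ 0 := fun h0 => n.factorial_ne_zero (by rw [wn_spec hp.ne_zero n, h0, mul_zero])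
  have h1 : padicValNat p p.factorial = 1 := by
    have := hk 1
    rw [mul_one, Nat.factorial_one, padicValNat.one] at this
    exact this
  rw [padicValNat.mul (mul_ne_zero (pow_ne_zero _ p.factorial_ne_zero) (Nat.factorial_ne_zero _)) hw,
    padicValNat.mul (pow_ne_zero _ p.factorial_ne_zero) (Nat.factorial_ne_zero _),
    padicValNat.pow, h1] at e
  have h4 : padicValNat p n.factorial = padicValNat p (p * (n / p)).factorial :=
    (padicValNat_mul_div_factorial n).symm
  rw [h4, hk] at e
  have := one_le_padicValNat_of_dvd hw h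
  omega

variable {A : Type u} [CommRing A] {p : ℕ} (hp : p.Prime) (hA : ∀ n : ℕ, ¬ p ∣ n → IsUnit (n : A))
  {I : Ideal A} (d : A → A)

/-- The candidate divided powers. -/
noncomputable def gam (hp : p.Prime) : ℕ → A → A
  | n => fun x =>
    if h : n = 0 then 1 else Ring.inverse (wn p n : A) * x ^ (n % p) * gam hp (n / p) (d x)
termination_by n => n
decreasing_by exact Nat.div_lt_self (Nat.pos_of_ne_zero h) hp.one_lt

theorem gam_zero (x : A) : gam d hp 0 x = 1 := by rw [gam]; rfl

theorem gam_eq (n : ℕ) (x : A) :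
    gam d hp n x = Ring.inverse (wn p n : A) * x ^ (n % p) * gam d hp (n / p) (d x) := by
  rcases eq_or_ne n 0 with rfl | h
  · simp [gam_zero hp, wn_zero]
  · conv_lhs => rw [gam]
    simp [h]

variable (hdI : ∀ x ∈ I, d x ∈ I) (h1 : ∀ x ∈ I, (p.factorial : A) * d x = x ^ p)
    (h2 : ∀ (a x : A), x ∈ I → d (a * x) = a ^ p * d x)

include hA in
theorem isUnit_wn (n : ℕ) (hp : p.Prime) : IsUnit (wn p n : A) := hA _ (not_dvd_wn hp n)

include hA in
theorem wn_mul_gam (n : ℕ) (x : A) :
    (wn p n : A) * gam d hp n x = x ^ (n % p) * gam d hp (n / p) (d x) := by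
  rw [gam_eq hp, mul_assoc (Ring.inverse _), Ring.mul_inverse_cancel_left _ _ (isUnit_wn hA n hp)]

theorem gam_one (x : A) : gam d hp 1 x = x := by
  rw [gam_eq hp, wn_one hp.two_le, Nat.mod_eq_of_lt hp.one_lt, Nat.div_eq_of_lt hp.one_lt, gam_zero hp]
  simp

theorem gam_p (x : A) : gam d hp p x = d x := by
  rw [gam_eq hp, wn_self hp.one_lt, Nat.mod_self, Nat.div_self hp.pos, gam_one hp]
  simp

include hdI in
theorem gam_mem {n : ℕ} : n ≠ 0 → ∀ {x : A}, x ∈ I → gam d hp n x ∈ I := by
  induction n using Nat.strong_induction_on with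
  | _ n ih =>
    intro hn x hx
    rw [gam_eq hp]
    by_cases hr : n % p = 0
    · refine Ideal.mul_mem_left _ _ (ih (n / p) (Nat.div_lt_self (Nat.pos_of_ne_zero hn) hp.one_lt) ?_ (hdI x hx))
      intro h0
      have := Nat.mod_add_div n p
      rw [h0, hr] at this
      omega
    · exact Ideal.mul_mem_right _ _ (Ideal.mul_mem_left _ _ (I.pow_mem_of_mem hx _ (Nat.pos_of_ne_zero hr)))

include h2 hdI in
theorem gam_smul (n : ℕ) : ∀ {a x : A}, x ∈ I → gam d hp n (a * x) = a ^ n * gam d hp n x := by
  induction n using Nat.strong_induction_on with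
  | _ n ih =>
    intro a x hx
    rcases eq_or_ne n 0 with rfl | hn
    · simp [gam_zero hp]
    rw [gam_eq hp d n, gam_eq hp d n x, h2 a x hx,
      ih (n / p) (Nat.div_lt_self (Nat.pos_of_ne_zero hn) hp.one_lt) (hdI x hx)]
    have e : a ^ n = a ^ (n % p) * (a ^ p) ^ (n / p) := by rw [← pow_mul, ← pow_add, Nat.mod_add_div]
    rw [e, mul_pow]
    ring

include hA hdI h1 in
theorem gam_mul : ∀ (N a b : ℕ), a + b = N → ∀ {x : A}, x ∈ I →
    gam d hp a x * gam d hp b x = ((a + b).choose a : A) * gam d hp (a + b) x := by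
  intro N
  induction N using Nat.strong_induction_on with
  | _ N ih =>
    intro a b hN x hx
    rcases eq_or_ne a 0 with rfl | ha
    · simp [gam_zero hp]
    have hlt : (a + b) / p < N := hN ▸ Nat.div_lt_self (by omega) hp.one_lt
    refine ((isUnit_wn hA a hp).mul (isUnit_wn hA b hp)).mul_left_cancel ?_
    have hmm : a / p + b / p ≤ (a + b) / p := Nat.add_div_le_add_div a b p
    rw [mul_mul_mul_comm, wn_mul_gam hp hA d, wn_mul_gam hp hA d, mul_mul_mul_comm,
      ih (a / p + b / p) (by omega) _ _ rfl (hdI x hx), ← pow_add]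
    have hP : 0 < p := hp.pos
    have ea := wn_spec hp.ne_zero a
    have eb := wn_spec hp.ne_zero b
    have es := wn_spec hp.ne_zero (a + b)
    have ec := Nat.add_choose_mul_factorial_mul_factorial a b
    have ec' := Nat.add_choose_mul_factorial_mul_factorial (a / p) (b / p)
    rw [← Nat.choose_symm_add] at ec ec'
    rcases Nat.lt_or_ge (a % p + b % p) p with hr | hr
    · have hm : (a + b) % p = a % p + b % p := Nat.add_mod_of_add_mod_lt (by omega)
      have hq : (a + b) / p = a / p + b / p := Nat.add_div_eq_of_add_mod_lt (by omega)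
      have key : wn p a * wn p b * (a + b).choose a = wn p (a + b) * (a / p + b / p).choose (a / p) := by
        refine Nat.eq_of_mul_eq_mul_right (m := p.factorial ^ (a / p + b / p) *
          ((a / p).factorial * (b / p).factorial)) (by positivity) ?_
        calc _ = (a + b).choose a * (p.factorial ^ (a / p) * (a / p).factorial * wn p a) *
              (p.factorial ^ (b / p) * (b / p).factorial * wn p b) := by rw [pow_add]; ring
          _ = (a + b).factorial := by rw [← ea, ← eb]; exact ec
          _ = p.factorial ^ (a / p + b / p) * ((a / p + b / p).choose (a / p) * (a / p).factorial *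
              (b / p).factorial) * wn p (a + b) := by rw [ec', ← hq]; exact es
          _ = _ := by ring
      rw [← mul_assoc _ _ (gam d hp (a + b) x), ← Nat.cast_mul, ← Nat.cast_mul, key, Nat.cast_mul,
        mul_comm (wn p (a + b) : A), mul_assoc, wn_mul_gam hp hA d, hm, hq]
      ring
    · have hm : (a + b) % p + p = a % p + b % p := Nat.add_mod_add_of_le_add_mod (by omega)
      have hq : (a + b) / p = a / p + b / p + 1 := Nat.add_div_eq_of_le_mod_add_mod (by omega) hP
      have key : wn p a * wn p b * (a + b).choose a =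
          wn p (a + b) * ((a / p + b / p).choose (a / p) * p.factorial * (a / p + b / p + 1)) := by
        refine Nat.eq_of_mul_eq_mul_right (m := p.factorial ^ (a / p + b / p) *
          ((a / p).factorial * (b / p).factorial)) (by positivity) ?_
        calc _ = (a + b).choose a * (p.factorial ^ (a / p) * (a / p).factorial * wn p a) *
              (p.factorial ^ (b / p) * (b / p).factorial * wn p b) := by rw [pow_add]; ring
          _ = (a + b).factorial := by rw [← ea, ← eb]; exact ec
          _ = p.factorial ^ (a / p + b / p) * p.factorial * ((a / p + b / p + 1) *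
              ((a / p + b / p).choose (a / p) * (a / p).factorial * (b / p).factorial)) * wn p (a + b) := by
            rw [ec', ← Nat.factorial_succ, ← pow_succ, ← hq]; exact es
          _ = _ := by ring
      have e1 : d x * gam d hp (a / p + b / p) (d x) =
          ((a / p + b / p + 1 : ℕ) : A) * gam d hp (a / p + b / p + 1) (d x) := by
        have := ih (1 + (a / p + b / p)) (by omega) 1 (a / p + b / p) rfl (hdI x hx)
        rwa [gam_one hp, Nat.choose_one_right, add_comm 1] at this
      rw [← mul_assoc _ _ (gam d hp (a + b) x), ← Nat.cast_mul, ← Nat.cast_mul, key, Nat.cast_mul,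
        mul_comm (wn p (a + b) : A), mul_assoc, wn_mul_gam hp hA d, hq, ← hm, pow_add, ← h1 x hx]
      push_cast at e1 ⊢
      linear_combination (((a / p + b / p).choose (a / p) : A) * (p.factorial : A) * x ^ ((a + b) % p)) * e1

include hA hdI h1 in
theorem factorial_mul_gam (n : ℕ) {x : A} (hx : x ∈ I) : (n.factorial : A) * gam d hp n x = x ^ n := by
  induction n with
  | zero => simp [gam_zero hp]
  | succ n ih =>
    have h := gam_mul hp hA d hdI h1 (n + 1) n 1 rfl hx
    rw [gam_one hp, Nat.choose_succ_self_right] at h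
    rw [Nat.factorial_succ, Nat.cast_mul, mul_comm _ (n.factorial : A), mul_assoc, ← h, ← mul_assoc, ih,
      pow_succ]

include hA hdI h1 h2 in
theorem d_gam : ∀ (n : ℕ), n ≠ 0 → ∀ {x : A}, x ∈ I →
    d (gam d hp n x) = (Nat.uniformBell p n : A) * gam d hp (p * n) x := by
  intro n
  induction n using Nat.strong_induction_on with
  | _ n ih =>
    intro hn x hx
    have hdx := hdI x hx
    have hpow : ∀ k, (x ^ p) ^ k = (p.factorial : A) ^ k * (k.factorial : A) * gam d hp k (d x) := fun k => by
      rw [← h1 x hx, mul_pow, mul_assoc, factorial_mul_gam hp hA d hdI h1 k hdx]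
    refine ((isUnit_wn hA n hp).pow p).mul_left_cancel ?_
    rw [← h2 _ _ (gam_mem hp d hdI hn hx), wn_mul_gam hp hA d]
    have hr := Nat.mod_add_div n p
    have hpn : (p * n) % p = 0 := Nat.mul_mod_right p n
    have hdn : (p * n) / p = n := Nat.mul_div_cancel_left n hp.pos
    have e0 := wn_mul_gam hp hA d (p * n) x
    rw [hpn, hdn, pow_zero, one_mul] at e0
    have en := wn_spec hp.ne_zero n
    have eN := wn_spec hp.ne_zero (p * n)
    rw [hdn] at eN
    have eu := Nat.uniformBell_mul_eq p hn
    rcases eq_or_ne (n / p) 0 with hm | hm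
    · have hrn : n % p = n := by rw [hm] at hr; omega
      rw [hm, gam_zero hp, mul_one, hrn]
      obtain ⟨k, rfl⟩ : ∃ k, n = k + 1 := ⟨n - 1, by omega⟩
      rw [pow_succ x k, h2 _ _ hx, ← pow_mul, mul_comm k, pow_mul, hpow]
      have key : wn p (k + 1) ^ p * Nat.uniformBell p (k + 1) =
          p.factorial ^ k * k.factorial * (k + 1) * wn p (p * (k + 1)) := by
        refine Nat.eq_of_mul_eq_mul_right p.factorial_pos ?_
        rw [hm, pow_zero, Nat.factorial_zero, one_mul, one_mul] at en
        calc _ = Nat.uniformBell p (k + 1) * (k + 1).factorial ^ p * p.factorial := by rw [en]; ring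
          _ = (p * (k + 1)).factorial := eu
          _ = p.factorial ^ (k + 1) * (k + 1).factorial * wn p (p * (k + 1)) := eN
          _ = _ := by rw [Nat.factorial_succ, pow_succ]; ring
      have e1 : gam d hp k (d x) * d x = ((k + 1 : ℕ) : A) * gam d hp (k + 1) (d x) := by
        have := gam_mul hp hA d hdI h1 (k + 1) k 1 rfl hdx
        rwa [gam_one hp, Nat.choose_succ_self_right] at this
      have keyA := congrArg (Nat.cast : ℕ → A) key
      push_cast at keyA e0 e1 ⊢
      linear_combination ((p.factorial : A) ^ k * (k.factorial : A)) * e1 -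
        ((p.factorial : A) ^ k * (k.factorial : A) * ((k : A) + 1)) * e0 -
        gam d hp (p * (k + 1)) x * keyA
    · rw [h2 _ _ (gam_mem hp d hdI hm hdx), ih (n / p) (Nat.div_lt_self (Nat.pos_of_ne_zero hn) hp.one_lt) hm hdx,
        ← pow_mul, mul_comm (n % p), pow_mul, hpow]
      have e1 : gam d hp (n % p) (d x) * gam d hp (p * (n / p)) (d x) =
          (n.choose (n % p) : A) * gam d hp n (d x) := by
        have := gam_mul hp hA d hdI h1 n _ _ hr hdx
        rwa [hr] at this
      have key : wn p n ^ p * Nat.uniformBell p n = p.factorial ^ (n % p) * (n % p).factorial *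
          Nat.uniformBell p (n / p) * n.choose (n % p) * wn p (p * n) := by
        refine Nat.eq_of_mul_eq_mul_right (m := (p.factorial ^ (n / p) * (n / p).factorial) ^ p * p.factorial)
          (by positivity) ?_
        have eb := Nat.uniformBell_mul_eq p hm
        have ec := Nat.choose_mul_factorial_mul_factorial (Nat.mod_le n p)
        rw [show n - n % p = p * (n / p) by omega, ← eb] at ec
        have ee : p.factorial ^ n = p.factorial ^ (n % p) * (p.factorial ^ (n / p)) ^ p := by
          rw [← pow_mul, ← pow_add, mul_comm (n / p), hr]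
        calc _ = Nat.uniformBell p n * (p.factorial ^ (n / p) * (n / p).factorial * wn p n) ^ p * p.factorial := by ring
          _ = (p * n).factorial := by rw [← en]; exact eu
          _ = p.factorial ^ n * (n.choose (n % p) * (n % p).factorial *
              (Nat.uniformBell p (n / p) * (n / p).factorial ^ p * p.factorial)) * wn p (p * n) := by rw [ec, ← eN]
          _ = _ := by rw [ee]; ring
      have keyA := congrArg (Nat.cast : ℕ → A) key
      push_cast at keyA e0 e1 ⊢
      linear_combination ((p.factorial : A) ^ (n % p) * ((n % p).factorial : A) * (Nat.uniformBell p (n / p) : A)) * e1 -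
        ((p.factorial : A) ^ (n % p) * ((n % p).factorial : A) * (Nat.uniformBell p (n / p) : A) *
          (n.choose (n % p) : A)) * e0 - gam d hp (p * n) x * keyA

theorem wn_mul_dpow {B : Type u} [CommRing B] {J : Ideal B} (γ : DividedPowers J) (hp : p.Prime) (n : ℕ)
    {u : B} (hu : u ∈ J) :
    (wn p n : B) * γ.dpow n u = u ^ (n % p) * γ.dpow (n / p) (γ.dpow p u) := by
  rw [γ.dpow_comp hp.ne_zero hu, ← γ.factorial_mul_dpow_eq_pow (n := n % p) hu, mul_mul_mul_comm,
    γ.mul_dpow hu, show n % p + n / p * p = n by rw [mul_comm]; exact Nat.mod_add_div n p, wn]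
  push_cast
  ring

variable (h3 : ∀ x ∈ I, ∀ y ∈ I, d (x + y) = d x + d y +
      ((Finset.antidiagonal p).filter fun k => 0 < k.1 ∧ 0 < k.2).sum
        fun k => Ring.inverse ((k.1.factorial * k.2.factorial : ℕ) : A) * x ^ k.1 * y ^ k.2)

include hA hdI h1 h2 h3 in
theorem hom_dpow {Λ : Type} (D : Pres ℤ (model.{0} Λ) Λ) {γ : DividedPowers D.aug}
    (hγ : ∀ l n, γ.dpow n (D.x l 1) = D.x l n) (s : Λ → A) (hs : ∀ l, s l ∈ I) :
    ∃ φ : model.{0} Λ →ₐ[ℤ] A, (∀ l, φ (D.x l 1) = s l) ∧
      ∀ u ∈ D.aug, φ u ∈ I ∧ ∀ n, φ (γ.dpow n u) = gam d hp n (φ u) := by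
  let φ := D.hom (fun l n => gam d hp n (s l)) (fun l => gam_zero hp d _)
    fun l n m => gam_mul hp hA d hdI h1 (n + m) n m rfl (hs l)
  have hφx : ∀ l n, φ (D.x l n) = gam d hp n (s l) := fun l n => Pres.hom_x D _ _ _ l n
  let M : Ideal (model.{0} Λ) :=
    { carrier := {u | u ∈ D.aug ∧ φ u ∈ I ∧ φ (γ.dpow p u) = d (φ u)}
      zero_mem' := ⟨zero_mem _, (map_zero φ).symm ▸ zero_mem _, by
        rw [γ.dpow_eval_zero hp.ne_zero, map_zero, ← mul_zero (0 : A), h2 0 0 (zero_mem _),
          zero_pow hp.ne_zero, zero_mul, zero_mul]⟩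
      add_mem' := by
        rintro a b ⟨ha, ha', ha''⟩ ⟨hb, hb', hb''⟩
        refine ⟨add_mem ha hb, (map_add φ a b).symm ▸ add_mem ha' hb', ?_⟩
        rw [map_add, h3 _ ha' _ hb', γ.dpow_add ha hb, map_sum,
          ← Finset.sum_filter_add_sum_filter_not (antidiagonal p) (fun k => 0 < k.1 ∧ 0 < k.2), add_comm]
        congr 1
        · have : (antidiagonal p).filter (fun k => ¬(0 < k.1 ∧ 0 < k.2)) = {(p, 0), (0, p)} := by
            ext ⟨i, j⟩
            simp only [mem_filter, mem_antidiagonal, mem_insert, mem_singleton, Prod.mk.injEq]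
            omega
          rw [this, Finset.sum_pair (by simp [hp.ne_zero])]
          simp [γ.dpow_zero ha, γ.dpow_zero hb, ha'', hb'']
        · refine Finset.sum_congr rfl fun k hk => ?_
          simp only [mem_filter, mem_antidiagonal] at hk
          have hu : ∀ i, i < p → IsUnit (i.factorial : A) := fun i hi =>
            hA _ fun hdvd => absurd ((Nat.Prime.dvd_factorial hp).1 hdvd) (by omega)
          have hc : ∀ i, i < p → ∀ {u : model.{0} Λ}, u ∈ D.aug →
              φ (γ.dpow i u) = Ring.inverse (i.factorial : A) * φ u ^ i := fun i hi u hu' => by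
            rw [← map_pow, ← γ.factorial_mul_dpow_eq_pow (n := i) hu', map_mul, map_natCast,
              Ring.inverse_mul_cancel_left _ _ (hu i hi)]
          rw [map_mul, hc _ (by omega) ha, hc _ (by omega) hb, Nat.cast_mul, Ring.mul_inverse_rev]
          ring
      smul_mem' := by
        rintro c a ⟨ha, ha', ha''⟩
        refine ⟨Ideal.mul_mem_left _ _ ha, (map_mul φ c a).symm ▸ Ideal.mul_mem_left _ _ ha', ?_⟩
        rw [smul_eq_mul, map_mul, h2 _ _ ha', γ.dpow_mul ha, map_mul, map_pow, ha''] }
  have hM : D.aug ≤ M := Ideal.span_le.2 (by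
    rintro _ ⟨l, n, hn, rfl⟩
    refine ⟨D.x_mem l hn, (hφx l n).symm ▸ gam_mem hp d hdI (by omega) (hs l), ?_⟩
    rw [hφx, d_gam hp hA d hdI h1 h2 n (by omega) (hs l), ← hγ l n, γ.dpow_comp (by omega) (D.x_mem l le_rfl),
      map_mul, map_natCast, hγ, hφx])
  refine ⟨φ, fun l => by rw [hφx, gam_one hp], fun u hu => ⟨(hM hu).2.1, fun n => ?_⟩⟩
  induction n using Nat.strong_induction_on generalizing u with
  | _ n ih =>
    rcases eq_or_ne n 0 with rfl | hn
    · rw [γ.dpow_zero hu, map_one, gam_zero hp]
    refine (isUnit_wn hA n hp).mul_left_cancel ?_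
    rw [wn_mul_gam hp hA d, ← map_natCast φ, ← map_mul, wn_mul_dpow γ hp n hu, map_mul, map_pow,
      ih (n / p) (Nat.div_lt_self (Nat.pos_of_ne_zero hn) hp.one_lt) _ (γ.dpow_mem hp.ne_zero hu), (hM hu).2.2]

include hA hdI h1 h2 h3 in
open Classical in
theorem existsUnique_dp (hp : p.Prime) : ∃! γ : DividedPowers I, ∀ x ∈ I, γ.dpow p x = d x := by
  obtain ⟨γ₁, hγ₁⟩ := (modelPres.{0} (Fin 1)).exists_dp
  obtain ⟨γ₂, hγ₂⟩ := (modelPres.{0} (Fin 2)).exists_dp
  refine ⟨{ dpow := fun n x => if x ∈ I then gam d hp n x else 0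
            dpow_null := fun hx => if_neg hx
            dpow_zero := fun hx => by rw [if_pos hx, gam_zero hp]
            dpow_one := fun hx => by rw [if_pos hx, gam_one hp]
            dpow_mem := fun hn hx => by rw [if_pos hx]; exact gam_mem hp d hdI hn hx
            dpow_add := ?_
            dpow_mul := fun {_ a _} hx => by
              rw [if_pos hx, if_pos (I.mul_mem_left a hx), gam_smul hp d hdI h2 _ hx]
            mul_dpow := fun hx => by
              simp only [if_pos hx]; exact gam_mul hp hA d hdI h1 _ _ _ rfl hx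
            dpow_comp := ?_ }, fun x hx => ?_, fun δ hδ => ?_⟩
  · intro n x y hx hy
    have hs : ∀ l, (![x, y] : Fin 2 → A) l ∈ I := by intro l; fin_cases l <;> assumption
    obtain ⟨φ, hφ, hφ'⟩ := hom_dpow hp hA d hdI h1 h2 h3 _ hγ₂ _ hs
    let D := modelPres.{0} (Fin 2)
    have m0 := D.x_mem 0 le_rfl
    have m1 := D.x_mem 1 le_rfl
    have e0 : φ (D.x 0 1) = x := hφ 0
    have e1 : φ (D.x 1 1) = y := hφ 1
    have h := (hφ' _ (add_mem m0 m1)).2 n
    rw [γ₂.dpow_add m0 m1, map_sum, map_add, e0, e1] at h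
    simp only [if_pos (add_mem hx hy), if_pos hx, if_pos hy]
    rw [← h]
    exact sum_congr rfl fun k _ => by rw [map_mul, (hφ' _ m0).2, (hφ' _ m1).2, e0, e1]
  · intro m n x hn hx
    obtain ⟨φ, hφ, hφ'⟩ := hom_dpow hp hA d hdI h1 h2 h3 _ hγ₁ (fun _ => x) fun _ => hx
    let D := modelPres.{0} (Fin 1)
    have m0 := D.x_mem 0 le_rfl
    simp only [if_pos hx, if_pos (gam_mem hp d hdI hn hx)]
    have h := (hφ' _ (γ₁.dpow_mem hn m0)).2 m
    rw [γ₁.dpow_comp hn m0, map_mul, map_natCast, (hφ' _ m0).2, (hφ' _ m0).2, hφ 0] at h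
    exact h.symm
  · simp only [if_pos hx]
    exact gam_p hp d x
  · refine DividedPowers.ext _ _ fun n {x} hx => ?_
    simp only [if_pos hx]
    induction n using Nat.strong_induction_on generalizing x with
    | _ n ih =>
      rcases eq_or_ne n 0 with rfl | hn
      · rw [δ.dpow_zero hx, gam_zero hp]
      refine (isUnit_wn hA n hp).mul_left_cancel ?_
      rw [wn_mul_gam hp hA d, wn_mul_dpow δ hp n hx, hδ x hx,
        ih (n / p) (Nat.div_lt_self (Nat.pos_of_ne_zero hn) hp.one_lt) (hdI x hx)]

end GrothLib.DPowPoly.OfPrime
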