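import Mathlib.RingTheory.DividedPowers.SubDPIdeal
import Mathlib.RingTheory.DividedPowers.RatAlgebra
import Mathlib.RingTheory.DividedPowers.Padic
import Mathlib.Algebra.MvPolynomial.Basic
import Mathlib.RingTheory.TensorProduct.Free
import Mathlib.RingTheory.Flat.TorsionFree

/-!
# Divided power polynomial algebras, via their monomial basis
-/

set_option autoImplicit false
universe u v w z

open DividedPowers

namespace GrothLib.DPowPoly

section Mk
variable {Λ : Type w} {S : Type z} [CommSemiring S]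

/-- The monomial attached to an exponent vector. -/
def mon (s : Λ → ℕ → S) (e : Λ →₀ ℕ) : S := e.prod fun l k => s l k

/-- The structure constants. -/
noncomputable def cf (e f : Λ →₀ ℕ) : ℕ := ∏ l ∈ (e + f).support, ((e + f) l).choose (e l)

variable {s : Λ → ℕ → S} (h0 : ∀ l, s l 0 = 1)

theorem mon_zero : mon s (0 : Λ →₀ ℕ) = 1 := Finsupp.prod_zero_index

include h0 in
theorem mon_single (l : Λ) (n : ℕ) : mon s (Finsupp.single l n) = s l n :=
  Finsupp.prod_single_index (h0 l)

include h0 in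
theorem mon_mul (hmul : ∀ l n m, s l n * s l m = ((n + m).choose n : S) * s l (n + m))
    (e f : Λ →₀ ℕ) : mon s e * mon s f = (cf e f : S) * mon s (e + f) := by
  classical
  have he : e.support ⊆ (e + f).support := fun l hl => by simp at hl ⊢; omega
  have hf : f.support ⊆ (e + f).support := fun l hl => by simp at hl ⊢; omega
  simp only [mon, Finsupp.prod_of_support_subset e he _ fun l _ => h0 l,
    Finsupp.prod_of_support_subset f hf _ fun l _ => h0 l,
    Finsupp.prod_of_support_subset (e + f) subset_rfl _ fun l _ => h0 l, cf, Nat.cast_prod,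
    ← Finset.prod_mul_distrib]
  exact Finset.prod_congr rfl fun l _ => by rw [hmul, Finsupp.add_apply]

theorem map_mon {T : Type*} [CommSemiring T] (g : S →+* T) (e : Λ →₀ ℕ) :
    g (mon s e) = mon (fun l k => g (s l k)) e := map_finsuppProd g e _

end Mk

/-- A divided power polynomial algebra presented by its monomial basis. -/
structure Pres (R : Type u) [CommRing R] (P : Type v) [CommRing P] [Algebra R P] (Λ : Type w) where
  x : Λ → ℕ → P
  x_zero : ∀ l, x l 0 = 1
  x_mul : ∀ l n m, x l n * x l m = ((n + m).choose n : P) * x l (n + m)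
  b : Module.Basis (Λ →₀ ℕ) R P
  b_eq : ∀ e, b e = mon x e

namespace Pres

variable {R : Type u} [CommRing R] {P : Type v} [CommRing P] [Algebra R P] {Λ : Type w}
  (D : Pres R P Λ)

/-- The augmentation ideal. -/
def aug : Ideal P := Ideal.span {y : P | ∃ (l : Λ) (n : ℕ), 1 ≤ n ∧ y = D.x l n}

theorem x_mem (l : Λ) {n : ℕ} (hn : 1 ≤ n) : D.x l n ∈ D.aug := Ideal.subset_span ⟨l, n, hn, rfl⟩

theorem b_single (l : Λ) (n : ℕ) : D.b (Finsupp.single l n) = D.x l n := by
  rw [D.b_eq, mon_single D.x_zero]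

theorem b_zero : D.b 0 = 1 := by rw [D.b_eq, mon_zero]

theorem b_mem {e : Λ →₀ ℕ} (he : e ≠ 0) : D.b e ∈ D.aug := by
  obtain ⟨l, hl⟩ := Finsupp.support_nonempty_iff.2 he
  classical
  rw [D.b_eq, mon, Finsupp.prod, ← Finset.mul_prod_erase _ _ hl]
  exact Ideal.mul_mem_right _ _ (D.x_mem l (Nat.one_le_iff_ne_zero.2 (Finsupp.mem_support_iff.1 hl)))

section Hom
variable {S : Type z} [CommRing S] [Algebra R S] (s : Λ → ℕ → S) (h0 : ∀ l, s l 0 = 1)
  (hmul : ∀ l n m, s l n * s l m = ((n + m).choose n : S) * s l (n + m))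

/-- The universal homomorphism. -/
noncomputable def hom : P →ₐ[R] S :=
  AlgHom.ofLinearMap (D.b.constr R (mon s))
    (by rw [← D.b_zero, Module.Basis.constr_basis, mon_zero])
    (LinearMap.map_mul_iff _ |>.2 (D.b.ext fun e => D.b.ext fun f => by
      simp only [LinearMap.compr₂_apply, LinearMap.mul_apply', LinearMap.compl₂_apply, LinearMap.coe_comp,
        Function.comp_apply, D.b_eq e, D.b_eq f, mon_mul D.x_zero D.x_mul]
      rw [← D.b_eq, ← D.b_eq, ← D.b_eq, ← nsmul_eq_mul, map_nsmul, Module.Basis.constr_basis,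
        Module.Basis.constr_basis, Module.Basis.constr_basis, nsmul_eq_mul, mon_mul h0 hmul]))

theorem hom_b (e : Λ →₀ ℕ) : D.hom s h0 hmul (D.b e) = mon s e := D.b.constr_basis R _ e

theorem hom_x (l : Λ) (n : ℕ) : D.hom s h0 hmul (D.x l n) = s l n := by
  rw [← D.b_single, hom_b, mon_single h0]

end Hom

theorem algHom_ext {S : Type z} [CommRing S] [Algebra R S] {φ ψ : P →ₐ[R] S}
    (h : ∀ l n, φ (D.x l n) = ψ (D.x l n)) : φ = ψ := by
  refine AlgHom.toLinearMap_injective (D.b.ext fun e => ?_)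
  show φ (D.b e) = ψ (D.b e)
  rw [D.b_eq]
  exact (map_mon φ.toRingHom e).trans
    ((congrArg (fun s => mon s e) (funext fun l => funext fun n => h l n)).trans (map_mon ψ.toRingHom e).symm)

/-- The augmentation. -/
noncomputable def aug₀ : P →ₐ[R] R :=
  D.hom (fun _ n => if n = 0 then 1 else 0) (fun _ => if_pos rfl) fun _ n m => by
    rcases n with _ | n <;> rcases m with _ | m <;> simp

theorem aug₀_b (e : Λ →₀ ℕ) [Decidable (e = 0)] : D.aug₀ (D.b e) = if e = 0 then 1 else 0 := by
  rw [aug₀, hom_b]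
  split_ifs with h
  · rw [h, mon_zero]
  · obtain ⟨l, hl⟩ := Finsupp.support_nonempty_iff.2 h
    exact Finset.prod_eq_zero hl (if_neg (Finsupp.mem_support_iff.1 hl))

theorem aug₀_apply (y : P) : D.aug₀ y = D.b.repr y 0 := by
  classical
  have : D.aug₀.toLinearMap = (Finsupp.lapply 0).comp D.b.repr.toLinearMap := D.b.ext fun e => by
    simp [aug₀_b, Finsupp.single_apply]
  exact LinearMap.congr_fun this y

theorem mem_aug {y : P} : y ∈ D.aug ↔ D.b.repr y 0 = 0 := by
  constructor
  · intro hy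
    rw [← aug₀_apply]
    refine (Ideal.span_le (I := RingHom.ker D.aug₀.toRingHom)).2 ?_ hy
    rintro _ ⟨l, n, hn, rfl⟩
    show D.aug₀ (D.x l n) = 0
    rw [aug₀, hom_x, if_neg (by omega)]
  · intro h
    rw [← D.b.linearCombination_repr y, Finsupp.linearCombination_apply]
    refine Submodule.sum_mem _ fun e he => ?_
    simp only [Algebra.smul_def]
    exact Ideal.mul_mem_left _ _ (D.b_mem fun h0 => Finsupp.mem_support_iff.1 he (h0 ▸ h))

/-- Base change. -/
noncomputable def baseChange (S : Type z) [CommRing S] [Algebra R S] : Pres S (TensorProduct R S P) Λ where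
  x l n := Algebra.TensorProduct.includeRight (D.x l n)
  x_zero l := by rw [D.x_zero, map_one]
  x_mul l n m := by rw [← map_mul, D.x_mul, map_mul, map_natCast]
  b := Algebra.TensorProduct.basis S D.b
  b_eq e := by
    rw [Algebra.TensorProduct.basis_apply, D.b_eq]
    exact map_mon (Algebra.TensorProduct.includeRight : P →ₐ[R] TensorProduct R S P).toRingHom e

theorem factorial_mul_x (l : Λ) (n : ℕ) : (n.factorial : P) * D.x l n = D.x l 1 ^ n := by
  induction n with
  | zero => simp [D.x_zero]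
  | succ n ih =>
    rw [pow_succ, ← ih, mul_assoc, D.x_mul, Nat.choose_succ_self_right, ← mul_assoc, ← Nat.cast_mul,
      mul_comm n.factorial, ← Nat.factorial_succ]

include D in
theorem isTorsionFree [Module.IsTorsionFree ℤ R] : Module.IsTorsionFree ℤ P :=
  D.b.repr.injective.moduleIsTorsionFree _ fun _ _ => map_zsmul _ _ _

theorem exists_dp_of_torsionFree [Module.IsTorsionFree ℤ R] :
    ∃ γ : DividedPowers D.aug, ∀ l n, γ.dpow n (D.x l 1) = D.x l n := by
  classical
  have := D.isTorsionFree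
  let f : P →+* TensorProduct ℤ ℚ P :=
    (Algebra.TensorProduct.includeRight : P →ₐ[ℤ] TensorProduct ℤ ℚ P).toRingHom
  have hinj : Function.Injective f :=
    Algebra.TensorProduct.includeRight_injective (R := ℤ) (A := ℚ) (B := P) Int.cast_injective
  let δ := DividedPowers.RatAlgebra.dividedPowers (D.aug.map f)
  have h1 : ∀ l, f (D.x l 1) ∈ D.aug.map f := fun l => Ideal.mem_map_of_mem f (D.x_mem l le_rfl)
  have hx : ∀ l n, δ.dpow n (f (D.x l 1)) = f (D.x l n) := fun l n => by
    rw [DividedPowers.RatAlgebra.dpow_apply, if_pos (h1 l), ← map_pow, ← D.factorial_mul_x, map_mul,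
      map_natCast, Ring.inverse_mul_cancel_left _ _ (IsUnit.natCast_factorial_of_algebra ℚ n)]
  let M : Ideal P :=
    { carrier := {y | y ∈ D.aug ∧ ∀ k, k ≠ 0 → ∃ u ∈ D.aug, f u = δ.dpow k (f y)}
      zero_mem' := ⟨zero_mem _, fun k hk => ⟨0, zero_mem _, by rw [map_zero, δ.dpow_eval_zero hk]⟩⟩
      add_mem' := by
        rintro a c ⟨ha, ha'⟩ ⟨hc, hc'⟩
        refine ⟨add_mem ha hc, fun k hk => ?_⟩
        have : δ.dpow k (f (a + c)) ∈ D.aug.toAddSubmonoid.map f.toAddMonoidHom := by
          rw [map_add, δ.dpow_add (Ideal.mem_map_of_mem f ha) (Ideal.mem_map_of_mem f hc)]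
          refine sum_mem fun p hp => ?_
          rw [Finset.mem_antidiagonal] at hp
          rcases eq_or_ne p.1 0 with h0 | h0
          · rw [h0, δ.dpow_zero (Ideal.mem_map_of_mem f ha), one_mul]
            obtain ⟨u, hu, e⟩ := hc' p.2 (by omega)
            exact ⟨u, hu, e⟩
          · obtain ⟨u, hu, e⟩ := ha' p.1 h0
            rcases eq_or_ne p.2 0 with h2 | h2
            · rw [h2, δ.dpow_zero (Ideal.mem_map_of_mem f hc), mul_one]
              exact ⟨u, hu, e⟩
            · obtain ⟨w, hw, e'⟩ := hc' p.2 h2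
              exact ⟨u * w, Ideal.mul_mem_left _ _ hw, (map_mul f u w).trans (congrArg₂ _ e e')⟩
        exact this
      smul_mem' := by
        rintro c a ⟨ha, ha'⟩
        refine ⟨Ideal.mul_mem_left _ _ ha, fun k hk => ?_⟩
        obtain ⟨u, hu, e⟩ := ha' k hk
        exact ⟨c ^ k * u, Ideal.mul_mem_left _ _ hu, by
          rw [smul_eq_mul, map_mul, map_mul, map_pow, δ.dpow_mul (Ideal.mem_map_of_mem f ha), e]⟩ }
  have hM : D.aug ≤ M := Ideal.span_le.2 (by
    rintro _ ⟨l, n, hn, rfl⟩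
    refine ⟨D.x_mem l hn, fun k hk => ⟨(Nat.uniformBell k n : P) * D.x l (k * n),
      Ideal.mul_mem_left _ _ (D.x_mem l (Nat.one_le_iff_ne_zero.2 (by positivity))), ?_⟩⟩
    rw [← hx, δ.dpow_comp (by omega) (h1 l), hx, map_mul, map_natCast])
  have hmem : ∀ (n : ℕ) {y : P} (_ : y ∈ D.aug),
      ∃ (u : P) (_ : n ≠ 0 → u ∈ D.aug), f u = δ.dpow n (f y) := fun n y hy => by
    rcases eq_or_ne n 0 with rfl | hn
    · exact ⟨1, fun h => absurd rfl h, by rw [map_one, δ.dpow_zero (Ideal.mem_map_of_mem f hy)]⟩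
    · obtain ⟨u, hu, e⟩ := (hM hy).2 n hn
      exact ⟨u, fun _ => hu, e⟩
  refine ⟨DividedPowers.ofInjective D.aug _ f hinj δ rfl hmem, fun l n => hinj ?_⟩
  simp only [DividedPowers.ofInjective, dif_pos (D.x_mem l le_rfl)]
  exact ((Exists.choose_spec (hmem n (D.x_mem l le_rfl))).2).trans (hx l n)

end Pres

section Model
variable (Λ : Type w)

open Classical in
/-- The generators of the model. -/
noncomputable def xq (l : Λ) (n : ℕ) : MvPolynomial Λ ℚ :=
  (DividedPowers.RatAlgebra.dividedPowers (⊤ : Ideal (MvPolynomial Λ ℚ))).dpow n (MvPolynomial.X l)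

theorem xq_zero (l : Λ) : xq Λ l 0 = 1 := DividedPowers.dpow_zero _ Submodule.mem_top

theorem xq_mul (l : Λ) (n m : ℕ) :
    xq Λ l n * xq Λ l m = ((n + m).choose n : MvPolynomial Λ ℚ) * xq Λ l (n + m) :=
  DividedPowers.mul_dpow _ Submodule.mem_top

theorem xq_eq (l : Λ) (n : ℕ) :
    xq Λ l n = MvPolynomial.monomial (Finsupp.single l n) ((n.factorial : ℚ)⁻¹) := by
  have h : (n.factorial : MvPolynomial Λ ℚ) * xq Λ l n = MvPolynomial.X l ^ n :=
    DividedPowers.factorial_mul_dpow_eq_pow _ Submodule.mem_top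
  rw [← (IsUnit.natCast_factorial_of_algebra ℚ (A := MvPolynomial Λ ℚ) n).mul_right_inj, h,
    MvPolynomial.X_pow_eq_monomial, ← MvPolynomial.C_eq_coe_nat, MvPolynomial.C_mul_monomial,
    mul_inv_cancel₀ (Nat.cast_ne_zero.2 n.factorial_ne_zero)]

theorem mon_xq (e : Λ →₀ ℕ) :
    mon (xq Λ) e = MvPolynomial.monomial e (e.prod fun _ k => ((k.factorial : ℚ)⁻¹)) := by
  classical
  simp only [mon, Finsupp.prod, xq_eq]
  rw [← MvPolynomial.monomial_sum_prod]
  exact congrArg (fun g => MvPolynomial.monomial g _) (Finsupp.sum_single e)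

theorem li_mon : LinearIndependent ℤ fun e : Λ →₀ ℕ => mon (xq Λ) e := by
  classical
  rw [linearIndependent_iff']
  intro s g hg e he
  have := congrArg (MvPolynomial.coeff e) hg
  simp only [mon_xq, MvPolynomial.coeff_sum, MvPolynomial.coeff_smul, MvPolynomial.coeff_monomial,
    smul_ite, smul_zero, Finset.sum_ite_eq', he, if_true, MvPolynomial.coeff_zero] at this
  refine (smul_eq_zero.1 this).resolve_right (Finset.prod_ne_zero_iff.2 fun _ _ => ?_)
  exact inv_ne_zero (Nat.cast_ne_zero.2 (Nat.factorial_ne_zero _))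

/-- The model over the integers. -/
noncomputable def model : Subalgebra ℤ (MvPolynomial Λ ℚ) :=
  (Submodule.span ℤ (Set.range (mon (xq Λ)))).toSubalgebra
    (Submodule.subset_span ⟨0, mon_zero⟩) fun a c ha hc => by
      induction ha, hc using Submodule.span_induction₂ with
      | mem_mem a c ha hc =>
        obtain ⟨e, rfl⟩ := ha
        obtain ⟨f, rfl⟩ := hc
        rw [mon_mul (xq_zero Λ) (xq_mul Λ), ← nsmul_eq_mul]
        exact nsmul_mem (Submodule.subset_span (Set.mem_range_self _)) _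
      | zero_left y _ => rw [zero_mul]; exact zero_mem _
      | zero_right y _ => rw [mul_zero]; exact zero_mem _
      | add_left a a' c _ _ _ h h' => rw [add_mul]; exact add_mem h h'
      | add_right a c c' _ _ _ h h' => rw [mul_add]; exact add_mem h h'
      | smul_left r a c _ _ h => rw [smul_mul_assoc]; exact Submodule.smul_mem _ r h
      | smul_right r a c _ _ h => rw [mul_smul_comm]; exact Submodule.smul_mem _ r h

/-- The presentation of the model. -/
noncomputable def modelPres : Pres ℤ (model Λ) Λ where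
  x l n := ⟨xq Λ l n, Submodule.subset_span ⟨_, mon_single (xq_zero Λ) l n⟩⟩
  x_zero l := Subtype.ext (xq_zero Λ l)
  x_mul l n m := Subtype.ext (by push_cast; exact xq_mul Λ l n m)
  b := Module.Basis.span (li_mon Λ)
  b_eq e := by
    refine Subtype.ext (Eq.trans ?_ (map_mon (model Λ).val.toRingHom e).symm)
    exact congrArg Subtype.val (Module.Basis.span_apply (li_mon Λ) e)

end Model

namespace Pres

variable {R : Type u} [CommRing R] {P : Type v} [CommRing P] [Algebra R P] {Λ : Type w}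
  (D : Pres R P Λ)

theorem exists_dp : ∃ γ : DividedPowers D.aug, ∀ l n, γ.dpow n (D.x l 1) = D.x l n := by
  classical
  let π : MvPolynomial R ℤ →+* R := (MvPolynomial.aeval (id : R → R) : MvPolynomial R ℤ →ₐ[ℤ] R).toRingHom
  have hπ : Function.Surjective π := fun r => ⟨.X r, MvPolynomial.aeval_X _ _⟩
  let : Algebra (MvPolynomial R ℤ) P := ((algebraMap R P).comp π).toAlgebra
  let D' := (modelPres Λ).baseChange (MvPolynomial R ℤ)
  have : Module.IsTorsionFree ℤ (MvPolynomial R ℤ) := inferInstance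
  obtain ⟨γ', hγ'⟩ := D'.exists_dp_of_torsionFree
  let ψ := D'.hom D.x D.x_zero D.x_mul
  have hψb : ∀ (r : MvPolynomial R ℤ) e, ψ (r • D'.b e) = π r • D.b e := fun r e => by
    rw [map_smul, hom_b, D.b_eq, Algebra.smul_def, Algebra.smul_def]; rfl
  have hsurj : Function.Surjective ψ := fun y => by
    refine ⟨∑ e ∈ (D.b.repr y).support, (hπ (D.b.repr y e)).choose • D'.b e, ?_⟩
    rw [map_sum]
    conv_rhs => rw [← D.b.linearCombination_repr y, Finsupp.linearCombination_apply, Finsupp.sum]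
    exact Finset.sum_congr rfl fun e _ => by rw [hψb, (hπ (D.b.repr y e)).choose_spec]
  have hψx : ∀ l n, ψ (D'.x l n) = D.x l n := fun l n => hom_x D' _ _ _ l n
  have hmap : D.aug = D'.aug.map ψ.toRingHom := by
    refine le_antisymm (Ideal.span_le.2 ?_) (Ideal.map_le_iff_le_comap.2 (Ideal.span_le.2 ?_))
    · rintro _ ⟨l, n, hn, rfl⟩
      exact hψx l n ▸ Ideal.mem_map_of_mem ψ.toRingHom (D'.x_mem l hn)
    · rintro _ ⟨l, n, hn, rfl⟩
      show ψ (D'.x l n) ∈ D.aug
      exact (hψx l n).symm ▸ D.x_mem l hn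
  let S : Set (TensorProduct ℤ (MvPolynomial R ℤ) (model Λ)) :=
    {y | ∃ r e, π r = 0 ∧ e ≠ 0 ∧ y = r • D'.b e}
  have hS : S ⊆ D'.aug := by
    rintro _ ⟨r, e, _, he, rfl⟩
    rw [Algebra.smul_def]
    exact Ideal.mul_mem_left _ _ (D'.b_mem he)
  have hspan : RingHom.ker ψ.toRingHom ⊓ D'.aug = Ideal.span S := by
    refine le_antisymm (fun y hy => ?_) (Ideal.span_le.2 fun z hz => ⟨?_, hS hz⟩)
    · rw [← D'.b.linearCombination_repr y, Finsupp.linearCombination_apply]
      refine Submodule.sum_mem _ fun e he => Ideal.subset_span ⟨_, e, ?_, fun h => ?_, rfl⟩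
      · have h2 : ψ y = ∑ e ∈ (D'.b.repr y).support, π (D'.b.repr y e) • D.b e := by
          conv_lhs => rw [← D'.b.linearCombination_repr y, Finsupp.linearCombination_apply, Finsupp.sum]
          rw [map_sum]
          exact Finset.sum_congr rfl fun e _ => hψb _ _
        exact linearIndependent_iff'.1 D.b.linearIndependent _ _ (h2.symm.trans hy.1) e he
      · exact Finsupp.mem_support_iff.1 he (h ▸ D'.mem_aug.1 hy.2)
    · obtain ⟨r, e, hr, _, rfl⟩ := hz
      show ψ (r • D'.b e) = 0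
      rw [hψb, hr, zero_smul]
  have hsub : γ'.IsSubDPIdeal (RingHom.ker ψ.toRingHom ⊓ D'.aug) := by
    rw [hspan, DividedPowers.span_isSubDPIdeal_iff hS]
    rintro n hn _ ⟨r, e, hr, he, rfl⟩
    rw [← hspan, Algebra.smul_def, γ'.dpow_mul (D'.b_mem he)]
    refine ⟨?_, Ideal.mul_mem_left _ _ (γ'.dpow_mem hn (D'.b_mem he))⟩
    show ψ _ = 0
    rw [map_mul, map_pow, AlgHom.commutes]
    show (algebraMap R P (π r)) ^ n * _ = 0
    rw [hr, map_zero, zero_pow hn, zero_mul]
  refine ⟨DividedPowers.Quotient.OfSurjective.dividedPowers γ' hsurj hmap hsub, fun l n => ?_⟩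
  rw [← hψx l 1, ← hψx l n, ← hγ' l n]
  exact DividedPowers.Quotient.OfSurjective.dpow_apply γ' hsurj hmap hsub (D'.x_mem l le_rfl)

/-- Uniqueness of the divided powers. -/
theorem dp_unique {γ δ : DividedPowers D.aug} (hγ : ∀ l n, γ.dpow n (D.x l 1) = D.x l n)
    (hδ : ∀ l n, δ.dpow n (D.x l 1) = D.x l n) : δ = γ :=
  γ.dpow_eq_from_gens δ rfl fun {k} y hy => by
    obtain ⟨l, n, hn, rfl⟩ := hy
    conv_lhs => rw [← hγ, γ.dpow_comp (by omega) (D.x_mem l le_rfl), hγ]
    conv_rhs => rw [← hδ, δ.dpow_comp (by omega) (D.x_mem l le_rfl), hδ]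

section HomDP
variable {S : Type z} [CommRing S] [Algebra R S] {J : Ideal S} (δ : DividedPowers J)
  (s : Λ → S) (hs : ∀ l, s l ∈ J)

/-- The homomorphism into a divided power ring. -/
noncomputable def homDP : P →ₐ[R] S :=
  D.hom (fun l n => δ.dpow n (s l)) (fun l => δ.dpow_zero (hs l)) fun l _ _ => δ.mul_dpow (hs l)

theorem homDP_x (l : Λ) (n : ℕ) : D.homDP δ s hs (D.x l n) = δ.dpow n (s l) := hom_x D _ _ _ l n

include hs in
theorem isDPMorphism_homDP {γ : DividedPowers D.aug} (hγ : ∀ l n, γ.dpow n (D.x l 1) = D.x l n) :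
    γ.IsDPMorphism δ (D.homDP δ s hs).toRingHom := by
  refine IsDPMorphism.on_span γ δ rfl ?_ fun {k} y hy => ?_
  · rintro _ ⟨l, n, hn, rfl⟩
    show D.homDP δ s hs (D.x l n) ∈ J
    rw [homDP_x]
    exact δ.dpow_mem (by omega) (hs l)
  · obtain ⟨l, n, hn, rfl⟩ := hy
    show D.homDP δ s hs _ = δ.dpow k (D.homDP δ s hs (D.x l n))
    rw [homDP_x, δ.dpow_comp (by omega) (hs l), ← hγ, γ.dpow_comp (by omega) (D.x_mem l le_rfl),
      map_mul, map_natCast, hγ, homDP_x]

include hs in
theorem existsUnique_homDP {γ : DividedPowers D.aug} (hγ : ∀ l n, γ.dpow n (D.x l 1) = D.x l n) :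
    ∃! φ : P →ₐ[R] S, γ.IsDPMorphism δ φ.toRingHom ∧ ∀ l, φ (D.x l 1) = s l := by
  refine ⟨D.homDP δ s hs, ⟨D.isDPMorphism_homDP δ s hs hγ, fun l => ?_⟩,
    fun φ hφ => D.algHom_ext fun l n => ?_⟩
  · rw [homDP_x, δ.dpow_one (hs l)]
  · rw [homDP_x, ← hγ, ← hφ.2 l]
    exact hφ.1.map_dpow (D.x_mem l le_rfl)

end HomDP

end Pres

end GrothLib.DPowPoly
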