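import Mathlib.RingTheory.WittVector.Truncated
import Mathlib.RingTheory.WittVector.TeichmullerSeries
import Mathlib.RingTheory.Ideal.Quotient.Operations
import Mathlib.NumberTheory.Basic
import Groth.Agent.S18928

/-!
# The theta map on truncated Witt vectors
-/

set_option autoImplicit false
universe u

open WittVector

namespace GrothLib.DPowPoly

variable (p : ℕ) [Fact p.Prime] (n : ℕ) {B : Type u} [CommRing B]

theorem ghost_eq_sum (hp : (p : B) ^ n = 0) (x : WittVector p B) :
    WittVector.ghostComponent n x = ∑ i : Fin n, (p : B) ^ (i : ℕ) * (x.coeff i) ^ (p ^ (n - i)) := by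
  rw [WittVector.ghostComponent_apply, aeval_wittPolynomial, Finset.sum_range_succ, hp, zero_mul, add_zero,
    Finset.sum_range]

theorem exists_theta (hp : (p : B) ^ n = 0) {I : Ideal B} (hI : DividedPowers I) :
    ∃ θ : TruncatedWittVector p n (B ⧸ I) →+* B, ∀ x : WittVector p B,
      θ (WittVector.truncate n (WittVector.map (Ideal.Quotient.mk I) x)) =
        ∑ i : Fin n, (p : B) ^ (i : ℕ) * (x.coeff i) ^ (p ^ (n - i)) := by
  let q : WittVector p B →+* TruncatedWittVector p n (B ⧸ I) :=
    (WittVector.truncate n).comp (WittVector.map (Ideal.Quotient.mk I))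
  have hq : Function.Surjective q := by
    intro t
    refine ⟨WittVector.mk p fun i => if h : i < n then (Ideal.Quotient.mk_surjective (t.coeff ⟨i, h⟩)).choose else 0, ?_⟩
    ext i
    simp only [q, RingHom.comp_apply, coeff_truncate, WittVector.map_coeff, coeff_mk, dif_pos i.2]
    exact (Ideal.Quotient.mk_surjective (t.coeff i)).choose_spec
  have hker : RingHom.ker q ≤ RingHom.ker (WittVector.ghostComponent (p := p) (R := B) n) := by
    intro x hx
    rw [RingHom.mem_ker, ghost_eq_sum p n hp]
    refine Finset.sum_eq_zero fun i _ => ?_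
    have hxi : x.coeff i ∈ I := by
      rw [← Ideal.Quotient.eq_zero_iff_mem]
      have := congrArg (TruncatedWittVector.coeff i) (RingHom.mem_ker.1 hx)
      simpa [q, coeff_truncate, WittVector.map_coeff] using this
    have := Groth.Agent.S18928.result hI p (n - i) 0 (x.coeff i) hxi
    rw [zero_add, zero_pow (pow_ne_zero _ (Nat.Prime.ne_zero Fact.out)), sub_zero,
      Ideal.mem_span_singleton_mul] at this
    obtain ⟨z, _, hz⟩ := this
    rw [← hz, ← mul_assoc, ← pow_add, Nat.add_sub_cancel' i.2.le, hp, zero_mul]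
  refine ⟨RingHom.liftOfSurjective q hq ⟨WittVector.ghostComponent n, hker⟩, fun x => ?_⟩
  rw [← ghost_eq_sum p n hp]
  exact RingHom.liftOfRightInverse_comp_apply q _ _ ⟨WittVector.ghostComponent n, hker⟩ x

variable {p n}
variable (θ : TruncatedWittVector p n (B ⧸ Ideal.span {(p : B)}) →+* B)
  (hθ : ∀ x : WittVector p B,
    θ (WittVector.truncate n (WittVector.map (Ideal.Quotient.mk (Ideal.span {(p : B)})) x)) =
      ∑ i : Fin n, (p : B) ^ (i : ℕ) * (x.coeff i) ^ (p ^ (n - i)))

include hθ in
theorem theta_surjective (hp : (p : B) ^ n = 0)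
    (hF : Function.Surjective (fun y : B ⧸ (Ideal.span {(p : B)}) => y ^ p)) :
    Function.Surjective θ := by
  have hFm : ∀ m, Function.Surjective (fun y : B ⧸ (Ideal.span {(p : B)}) => y ^ (p ^ m)) := by
    intro m
    induction m with
    | zero => exact fun y => ⟨y, by simp⟩
    | succ m ih =>
      intro y
      obtain ⟨z, rfl⟩ := hF y
      obtain ⟨w, rfl⟩ := ih z
      exact ⟨w, by simp only [← pow_mul, pow_succ]⟩
  have main : ∀ k, k ≤ n → ∀ b : B, ∃ x : ℕ → B, ∃ r : B,
      b = (∑ i ∈ Finset.range k, (p : B) ^ i * x i ^ (p ^ (n - i))) + (p : B) ^ k * r := by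
    intro k hk b
    induction k with
    | zero => exact ⟨0, b, by simp⟩
    | succ k ih =>
      obtain ⟨x, r, hb⟩ := ih (by omega)
      obtain ⟨y, hy⟩ := hFm (n - k) (Ideal.Quotient.mk _ r)
      obtain ⟨y, rfl⟩ := Ideal.Quotient.mk_surjective y
      simp only [← map_pow, Ideal.Quotient.eq, Ideal.mem_span_singleton'] at hy
      obtain ⟨c, hc⟩ := hy
      refine ⟨Function.update x k y, -c, ?_⟩
      have hs : ∑ i ∈ Finset.range k, (p : B) ^ i * Function.update x k y i ^ (p ^ (n - i)) =
          ∑ i ∈ Finset.range k, (p : B) ^ i * x i ^ (p ^ (n - i)) :=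
        Finset.sum_congr rfl fun i hi => by rw [Function.update_of_ne (Finset.mem_range.1 hi).ne]
      rw [Finset.sum_range_succ, Function.update_self, hb, hs]
      linear_combination (p : B) ^ k * hc
  intro b
  obtain ⟨x, r, hb⟩ := main n le_rfl b
  refine ⟨WittVector.truncate n (WittVector.map (Ideal.Quotient.mk _) (WittVector.mk p x)), ?_⟩
  rw [hθ, hb, hp, zero_mul, add_zero, Finset.sum_range]
  rfl

include hθ in
theorem theta_sub_mem (hn : 0 < n) (x : WittVector p B) :
    θ (WittVector.truncate n (WittVector.map (Ideal.Quotient.mk _) x)) - x.coeff 0 ^ (p ^ n) ∈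
      Ideal.span {(p : B)} := by
  rw [hθ, ← Finset.add_sum_erase _ _ (Finset.mem_univ (⟨0, hn⟩ : Fin n))]
  simp only [pow_zero, one_mul, Nat.sub_zero, add_sub_cancel_left]
  refine Ideal.sum_mem _ fun i hi => Ideal.mul_mem_right _ _ (Ideal.mem_span_singleton.2 (dvd_pow_self _ ?_))
  intro h
  exact Finset.ne_of_mem_erase hi (Fin.ext h)

include hθ in
theorem quot_theta (hn : 0 < n) (a : TruncatedWittVector p n (B ⧸ Ideal.span {(p : B)})) :
    Ideal.Quotient.mk (Ideal.span {(p : B)}) (θ a) = TruncatedWittVector.coeff ⟨0, hn⟩ a ^ (p ^ n) := by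
  obtain ⟨t, rfl⟩ := WittVector.truncate_surjective p n _ a
  obtain ⟨x, rfl⟩ := WittVector.map_surjective _ Ideal.Quotient.mk_surjective t
  rw [coeff_truncate, WittVector.map_coeff, ← map_pow]
  exact Ideal.Quotient.eq.2 (theta_sub_mem θ hθ hn x)

theorem truncate_eq_sum {k : Type u} [CommRing k] [CharP k p] [PerfectRing k p] (x : WittVector p k)
    (y : Fin n → WittVector p k) (hy : ∀ i : Fin n, ((y i).coeff 0) ^ (p ^ n) = x.coeff i) :
    WittVector.truncate n x =
      WittVector.truncate n (∑ i : Fin n, (p : WittVector p k) ^ (i : ℕ) * (y i) ^ (p ^ (n - i))) := by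
  rcases n with _ | m
  · exact TruncatedWittVector.ext fun i => i.elim0
  refine (RingHom.sub_mem_ker_iff _).1 ((WittVector.mem_ker_truncate _ _).2 fun i hi => ?_)
  refine (WittVector.mem_span_p_pow_iff_le_coeff_eq_zero _ (m + 1)).1 ?_ i hi
  rw [Ideal.mem_span_singleton]
  have h := dvd_sub_sum_teichmuller_iterateFrobeniusEquiv_coeff x m
  rw [← Nat.range_succ_eq_Iic, Finset.sum_range] at h
  have h2 : ∀ j : Fin (m + 1), (p : WittVector p k) ^ (m + 1) ∣
      teichmuller p (((_root_.frobeniusEquiv k p).symm ^ (j : ℕ)) (x.coeff j)) * (p : WittVector p k) ^ (j : ℕ) -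
        (p : WittVector p k) ^ (j : ℕ) * (y j) ^ (p ^ (m + 1 - j)) := by
    intro j
    have e : ((_root_.frobeniusEquiv k p).symm ^ (j : ℕ)) (x.coeff j) = (y j).coeff 0 ^ (p ^ (m + 1 - j)) := by
      refine (_root_.frobeniusEquiv k p ^ (j : ℕ)).injective ?_
      have h1 : ∀ (l : ℕ) (z : k), (_root_.frobeniusEquiv k p ^ l) z = z ^ (p ^ l) := by
        intro l z
        induction l with
        | zero => simp
        | succ l ih => rw [pow_succ', RingAut.mul_apply, ih, _root_.frobeniusEquiv_apply, frobenius_def, ← pow_mul, pow_succ]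
      rw [← RingAut.mul_apply, show (_root_.frobeniusEquiv k p).symm = (_root_.frobeniusEquiv k p)⁻¹ from rfl,
        inv_pow, mul_inv_cancel, RingAut.one_apply, h1, ← pow_mul, ← pow_add, Nat.sub_add_cancel j.2.le]
      exact (hy j).symm
    rw [e, map_pow, mul_comm, ← mul_sub]
    have hd : (p : WittVector p k) ∣ teichmuller p ((y j).coeff 0) - y j := by
      rw [← Ideal.mem_span_singleton, ← pow_one (p : WittVector p k), mem_span_p_pow_iff_le_coeff_eq_zero]
      intro l hl
      obtain rfl : l = 0 := by omega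
      show (constantCoeff : WittVector p k →+* k) (teichmuller p ((y j).coeff 0) - y j) = 0
      rw [map_sub]
      show (teichmuller p ((y j).coeff 0)).coeff 0 - (y j).coeff 0 = 0
      rw [teichmuller_coeff_zero, sub_self]
    refine (dvd_trans (pow_dvd_pow _ ?_) (by rw [pow_add]; exact mul_dvd_mul_left _ (dvd_sub_pow_of_dvd_sub hd (m + 1 - j))))
    show m + 1 ≤ (j : ℕ) + (m + 1 - j + 1)
    omega
  have := dvd_add h (Finset.dvd_sum fun j (_ : j ∈ Finset.univ) => h2 j)
  rwa [Finset.sum_sub_distrib, sub_add_sub_cancel] at this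

end GrothLib.DPowPoly
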